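import Mathlib
import Cfsg.Prelude.Def_Solvable
import Cfsg.Prelude.Def_Sz
import Cfsg.Agent.Lib.BSW.Bruhat

/-!
# Interfaces of the rank one programme

Each big theorem is stated as a `Prop`; downstream files take it as a hypothesis until it is proved.
-/

set_option autoImplicit false

namespace Cfsg.Agent.R1

open Subgroup

universe u

/-- Glauberman's `Z*` theorem (contains the Brauer-Suzuki theorem). -/
def ZStar : Prop := ∀ (G : Type u) [Group G] [Finite G] (t : G), t * t = 1 →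
  (∀ g : G, t * (g * t * g⁻¹) = g * t * g⁻¹ * t → g * t * g⁻¹ = t) →
  ∀ g : G, g * t * g⁻¹ * t⁻¹ ∈ pPrimeCore 2 G

/-- Higman's theorem on Suzuki 2-groups, in ambient form: `K` cyclic normalizes the 2-group `S` and is
transitive on its involutions, of which there are at least two. -/
def Higman : Prop := ∀ (G : Type u) [Group G] [Finite G] (S K : Subgroup G), IsPGroup 2 S →
  IsCyclic K → K ≤ normalizer (S : Set G) → ¬ IsMulCommutative S →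
  (∃ x ∈ S, ∃ y ∈ S, x ≠ y ∧ x ≠ 1 ∧ x * x = 1 ∧ y ≠ 1 ∧ y * y = 1) →
  (∀ x ∈ S, ∀ y ∈ S, x ≠ 1 → x * x = 1 → y ≠ 1 → y * y = 1 → ∃ k ∈ K, k * x * k⁻¹ = y) →
  (∀ x, x ∈ ⁅S, S⁆ ↔ x ∈ S ∧ x * x = 1) ∧ (∀ x, x ∈ S ⊓ centralizer (S : Set G) ↔ x ∈ S ∧ x * x = 1) ∧
    (∀ x ∈ S, x * x ∈ ⁅S, S⁆) ∧
    (Nat.card S = Nat.card ↥⁅S, S⁆ ^ 2 ∨ Nat.card S = Nat.card ↥⁅S, S⁆ ^ 3)

/-- first half of Suzuki's theorem on Zassenhaus groups of odd degree -/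
def ZT1 : Prop := ∀ (G : Type u) [Group G] [Finite G] (H : Subgroup G) (t : G), BSW.HypC H t →
  (∀ x ∈ H, x * x = 1) ∨ (IsPGroup 2 H ∧ Nat.card H = (Nat.card (BSW.Kt H t) + 1) ^ 2)

/-- Suzuki's theorem on Zassenhaus groups of odd degree -/
def ZT : Prop := ∀ (G : Type u) [Group G] [Finite G] (H : Subgroup G) (t : G), BSW.HypC H t →
  (∃ n : ℕ, 2 ≤ n ∧ Nat.card H = 2 ^ n ∧
    Nonempty (G ≃* Matrix.ProjectiveSpecialLinearGroup (Fin 2) (GaloisField 2 n))) ∨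
  (∃ m : ℕ, 1 ≤ m ∧ Nat.card H = (2 ^ (2 * m + 1)) ^ 2 ∧ IsSimpleGroup G ∧
    Nonempty (G ≃* Lie.Sz (GaloisField 2 (2 * m + 1)) (2 ^ (m + 1))))

/-- Brauer-Suzuki-Wall, odd case: the involution centralizer is generalized dihedral over a
trivial intersection subgroup `K`. -/
def BSWodd : Prop := ∀ (G : Type u) [Group G] [Finite G] (K : Subgroup G) (t s : G),
  t ∈ K → t ≠ 1 → t * t = 1 → s ∉ K → s * s = 1 → (∀ x ∈ K, s * x * s⁻¹ = x⁻¹) →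
  (∀ g : G, g * t = t * g ↔ g ∈ K ∨ g * s ∈ K) →
  (∀ x ∈ K, x ≠ 1 → ∀ g : G, g * x * g⁻¹ ∈ K → g * t = t * g) →
  (∀ a b : G, a ≠ 1 → a * a = 1 → b ≠ 1 → b * b = 1 → IsConj a b) →
  pPrimeCore 2 G = ⊥ → pCore 2 G = ⊥ →
  ∃ (F : Type) (_ : Field F) (_ : Fintype F), Odd (Fintype.card F) ∧ 5 ≤ Fintype.card F ∧
    (2 * Nat.card K + 1 = Fintype.card F ∨ 2 * Nat.card K = Fintype.card F + 1) ∧
    Nonempty (G ≃* Matrix.ProjectiveSpecialLinearGroup (Fin 2) F)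

/-- Suzuki's classification of the simple groups whose involution centralizers are 2-groups -/
def CIT : Prop := ∀ (G : Type u) [Group G] [Finite G], IsSimpleGroup G → ¬ IsMulCommutative G →
  (∀ t : G, t ≠ 1 → t * t = 1 → IsPGroup 2 (centralizer ({t} : Set G))) →
  (∃ n : ℕ, 2 ≤ n ∧ Nonempty (G ≃* Matrix.ProjectiveSpecialLinearGroup (Fin 2) (GaloisField 2 n))) ∨
  (∃ m : ℕ, 1 ≤ m ∧ Nonempty (G ≃* Lie.Sz (GaloisField 2 (2 * m + 1)) (2 ^ (m + 1)))) ∨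
  (∃ (F : Type) (_ : Field F) (_ : Fintype F),
    (Fintype.card F = 9 ∨ ((Fintype.card F).Prime ∧
      ∃ k : ℕ, Fintype.card F = 2 ^ k + 1 ∨ Fintype.card F + 1 = 2 ^ k)) ∧
    Nonempty (G ≃* Matrix.ProjectiveSpecialLinearGroup (Fin 2) F)) ∨
  Nonempty (G ≃* Matrix.ProjectiveSpecialLinearGroup (Fin 3) (GaloisField 2 2))

end Cfsg.Agent.R1
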