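import Cfsg.Agent.Lib.R1.BS8a

/-!
# The Brauer-Suzuki theorem for `Q₈`
-/

set_option autoImplicit false

namespace Cfsg.Agent.R1

open Subgroup Cfsg.Agent.OO Cfsg.Agent.Blk
open scoped ComplexConjugate

universe u

variable {G : Type u} [Group G] [Finite G] {H K : Subgroup G} {φ ψ χ η ξ b c : G → ℂ}
  {a g k s x z : G} {m : ℕ} {τ : ℂ}

namespace Q8H

variable (h : Q8H x z H K m)
include h

theorem normedTI : NormedTI ((H : Set G) \ Reg 2 H) ⊤ H :=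
  ⟨⟨z, h.z_mem, by simpa using h.not_reg one_mem_Reg⟩, le_top,
    fun g hg a ha => ⟨mul_mem (mul_mem hg ha.1) (inv_mem hg), mt (conj_mem_Reg hg).1 ha.2⟩,
    fun g _ a ha ha' => by
      have h1 : orderOf (a ^ (orderOf a / 2)) = 2 :=
        orderOf_pow_orderOf_div (orderOf_pos a).ne' (not_not.1 fun e => ha.2 ⟨ha.1, e⟩)
      have h2 : a ^ (orderOf a / 2) * a ^ (orderOf a / 2) = 1 :=
        (pow_two _).symm.trans (orderOf_dvd_iff_pow_eq_one.1 h1.dvd)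
      have h3 := (h.inv _ (pow_mem ha.1 _) h2).resolve_left fun e => by simp [e] at h1
      have h4 := h.inv _ (pow_mem ha'.1 (orderOf a / 2)) (by rw [conj_pow, conj_mul, h2]; simp)
      rw [conj_pow, h3, conj_eq_one_iff] at h4
      exact h.defH ▸ mem_cent1_iff_conj.2 (h4.resolve_left h.z_ne)⟩

theorem prB_eq_top (ha : a ∈ (H : Set G) \ Reg 2 H) (hφ : φ ∈ CF ⊤) :
    prB 2 H φ a = prB 2 ⊤ φ a := by
  obtain ⟨u, s, ⟨k, hu⟩, hs, hc, huH, hsH, rfl⟩ := exists_decomp Nat.prime_two a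
  replace huH := zpowers_le.2 ha.1 huH
  replace hsH := zpowers_le.2 ha.1 hsH
  refine prB_of_cent_le le_top huH hu (fun g hg => h.defH ▸ mem_cent1.2 ?_)
    ⟨⟨mem_top _, mem_cent1.2 hc.symm⟩, hs⟩ hφ
  have h1 : Commute g u := mem_cent1.1 hg.2
  rcases h.fus u huH ⟨k, hu⟩ with h2 | ⟨k, hk, h2⟩
  · rcases h.inv u huH h2 with rfl | rfl
    · exact absurd ⟨ha.1, by rwa [one_mul]⟩ ha.2
    · exact h1
  · have h3 : u * u = z := by rw [h2, conj_mul, h.sq, h.comm hk, mul_inv_cancel_right]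
    exact h3 ▸ h1.mul_right h1

theorem prB_tr_reg (hφ : prB 2 H φ = φ) :
    prB 2 H (tr z (regInd 2 H * φ)) = tr z (regInd 2 H * φ) := by
  rw [h.prB_tr, prB_regInd_mul, hφ]

theorem tr_reg_on (hφ : φ ∈ CF H) : tr z (regInd 2 H * φ) ∈ CFon H ((H : Set G) \ Reg 2 H) :=
  mem_CFon_of (h.tr_mem (mul_mem_CF regInd_mem_CF hφ)) fun y hy hy' => by
    simp [regInd_of_not_mem (h.not_reg (not_not.1 fun e => hy' ⟨hy, e⟩))]

theorem del_on : del z H ∈ CFon H ((H : Set G) \ Reg 2 H) :=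
  mem_CFon_of h.del_mem fun _ hy hy' => h.del_reg (not_not.1 fun e => hy' ⟨hy, e⟩)

theorem cfdot_tr_reg_del (hφ : prB 2 H φ = φ) : ⟪tr z (regInd 2 H * φ), del z H⟫[H] = 0 := by
  have h7 := h.not_reg_x H.one_mem K.one_mem
  simp only [mul_one, one_mul, inv_one] at h7
  rw [h.cfdot_del (h.prB_tr_reg hφ)]
  simp [regInd_of_not_mem h7.2]

omit h in
theorem cfdot_reg (φ ψ : G → ℂ) : ⟪φ, regInd 2 H * ψ⟫[H] = ⟪regInd 2 H * φ, ψ⟫[H] := by
  rw [cfdot_mul_right, mul_comm]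
  congr 2
  ext y
  by_cases hy : y ∈ Reg 2 H <;> simp [regInd_of_mem, regInd_of_not_mem, hy]

theorem cfdot_alpha (hφ : prB 2 H φ = φ) (h0 : φ x = 0) (hτ : τ = 1 ∨ τ = -1) (e : tr z ξ = -ξ) :
    ⟪φ, (2 * τ) • tr z (regInd 2 H * ξ) + (2 : ℂ) • del z H⟫[H] =
      τ * ⟪regInd 2 H * tr z φ - tr z (regInd 2 H * tr z φ), ξ⟫[H] := by
  rw [cfdotDr, cfdotZr, cfdotZr, h.cfdot_del hφ, h0, ← h.cfdot_tr, cfdot_reg, cfdotBl, h.cfdot_tr _ ξ,
    e, cfdotNr]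
  rcases hτ with rfl | rfl <;> simp [Complex.conj_ofNat] <;> ring

theorem key (hgen : normalClosure ({z} : Set G) = ⊤)
    (hodd : ∀ g : G, ¬ 2 ∣ orderOf (g * z * g⁻¹ * z)) (hξ : ξ ∈ B0 2 H) (e : tr z ξ = -ξ)
    (hτ : τ = 1 ∨ τ = -1) (hc : IsDirr ⊤ c) (hb : IsDirr ⊤ b) (hc1 : ⟪c, cf1 ⊤⟫[⊤] = 0)
    (hb1 : ⟪b, cf1 ⊤⟫[⊤] = 0) (hcb : ⟪c, b⟫[⊤] = 0)
    (hθ : cfInd ⊤ H ((2 * τ) • tr z (regInd 2 H * ξ) + (2 : ℂ) • del z H) = cf1 ⊤ + c + b)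
    (hβ : ⟪b, cfInd ⊤ H (del z H)⟫[⊤] = 0) : False := by
  set α := (2 * τ) • tr z (regInd 2 H * ξ) + (2 : ℂ) • del z H with hα
  have hξ' := isIrr_of_mem_B0 hξ
  have hαA : α ∈ CFon H ((H : Set G) \ Reg 2 H) :=
    add_mem (Submodule.smul_mem _ _ (h.tr_reg_on hξ'.mem_CF)) (Submodule.smul_mem _ _ h.del_on)
  have hαB : prB 2 H α = α := by
    rw [hα, map_add, map_smul, map_smul, h.prB_tr_reg (prB_of_mem hξ), h.prB_del]
  set φ := prB 2 H b with hφ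
  have hφB : prB 2 H φ = φ := prB_prB b
  have hφZ : φ ∈ ZIrr H := prB_vchar le_top hb.vchar
  have h1 : ⟪φ, α⟫[H] = 1 := by
    rw [hφ, cfdot_prB, hαB, ← cfdot_cfInd_right le_top hb.mem_CF hαA.1.1, hθ, cfdotDr, cfdotDr, hb1,
      cfdot_symm0 hcb, hb.cfdot_self, zero_add, zero_add]
  have h2 : ∀ a ∈ (H : Set G) \ Reg 2 H, φ a = b a := by
    obtain ⟨ε, -, χ, hχ, rfl⟩ := hb.exists_sign
    by_cases h2 : χ ∈ B0 2 ⊤
    · exact fun a ha => by rw [hφ, h.prB_eq_top ha hb.mem_CF, map_smul, prB_of_mem h2]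
    · refine absurd (h1.symm.trans (cfdot_eq_zero_of_forall fun a _ => ?_)) one_ne_zero
      by_cases ha : a ∈ (H : Set G) \ Reg 2 H
      · exact Or.inl (by rw [hφ, h.prB_eq_top ha hb.mem_CF, map_smul, prB_of_not_mem hχ h2]; simp)
      · exact Or.inr (hαA.2 a ha)
  have h3 : φ x = 0 := by
    rw [cfdot_cfInd_right le_top hb.mem_CF h.del_mem.1, ← h.prB_del, ← cfdot_prB,
      h.cfdot_del hφB] at hβ
    simpa using hβ
  set γ := regInd 2 H * tr z φ with hγ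
  have hγB : prB 2 H γ = γ := by rw [hγ, prB_regInd_mul, h.prB_tr, hφB]
  have hD : γ - tr z γ ∈ ZIrr H := by
    have h4 : prB 2 H (γ - tr z γ) = γ - tr z γ := by rw [map_sub, h.prB_tr, hγB]
    refine vchar_of_cfdot (h4 ▸ prB_mem_CF _) fun χ hχ => ?_
    by_cases h5 : χ ∈ B0 2 H
    swap
    · rw [← h4, cfdot_prB_of_not_mem _ hχ h5]; exact isCint_zero
    rcases h.sign hχ with h6 | h6
    · rw [cfdotBl, h.cfdot_tr, h6, sub_self]; exact isCint_zero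
    · obtain ⟨τ', hτ', h7, -⟩ := h.exists_alpha h5 h6
      have h8 := Cint_cfdot_vchar hφZ h7
      rw [h.cfdot_alpha hφB h3 hτ' h6] at h8
      rcases hτ' with rfl | rfl
      · rwa [one_mul] at h8
      · simpa using h8.neg
  have hγA := h.tr_reg_on (h.tr_mem (vchar_mem_CF hφZ))
  have h4 : cfnorm H (tr z γ) < 1 := by
    have h5 : cfnorm ⊤ (cfInd ⊤ H (tr z γ)) = cfnorm H (tr z γ) :=
      cfnorm_eq_of_cfdot (by rw [normedTI_isometry h.normedTI hγA hγA, cfdot_self])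
    have h6 : ⟪cfInd ⊤ H (tr z γ), b⟫[⊤] = cfnorm H (tr z γ) := by
      rw [cfdot_cfInd_left le_top hγA.1.1 hb.mem_CF, ← cfdot_self, cfdotE, cfdotE]
      refine congrArg _ (Finset.sum_congr rfl fun y hy => ?_)
      by_cases h6 : z * y ∈ Reg 2 H
      · simp [hγ, regInd_of_mem h6, h.zzg, h2 y ⟨mem_elts.1 hy, fun e => h.not_reg e h6⟩]
      · simp [hγ, regInd_of_not_mem h6]
    by_contra h7
    have h8 := cfCauchySchwarz_eq (cfInd_mem_CF ⊤ H (tr z γ)) hb.mem_CF hb.ne_zero (by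
      rw [h5, h6, hb.cfnorm, Complex.norm_real, Real.norm_eq_abs, sq_abs]
      nlinarith [not_lt.1 h7])
    have h9 := congrFun h8 1
    rw [cfInd1 le_top, hγA.2 1 fun e => e.2 one_mem_Reg, h6, hb.cfdot_self, div_one, mul_zero,
      Pi.smul_apply, smul_eq_mul, eq_comm, mul_eq_zero] at h9
    rcases h9 with h9 | h9
    · exact h7 (by rw [Complex.ofReal_eq_zero.1 h9]; norm_num)
    · exact hb.one_ne_zero h9
  have h5 : γ - tr z γ - τ • ξ = 0 := by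
    refine vchar_eq_zero_of_cfnorm_lt (sub_mem hD (hξ'.isDirr.smul_sign hτ).vchar) ?_
    have h6 : ⟪γ - tr z γ, τ • ξ⟫[H] = 1 := by
      rw [cfdotZr, ← h1, h.cfdot_alpha hφB h3 hτ e]
      rcases hτ with rfl | rfl <;> simp [hγ]
    have h7 : cfnorm H γ = cfnorm H (tr z γ) :=
      cfnorm_eq_of_cfdot (by rw [← cfdot_self, h.cfdot_tr, h.tr_tr])
    rw [cfnormB, h6, cfnormBd (h.cfdot_reg_tr _ _), h7, (hξ'.isDirr.smul_sign hτ).cfnorm]
    simp only [Complex.one_re]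
    linarith
  have hzA : z ∈ (H : Set G) \ Reg 2 H := ⟨h.z_mem, by simpa using h.not_reg one_mem_Reg⟩
  have h6 : b z = τ * ξ 1 := by
    have := congrFun h5 1
    simp only [hγ, Pi.sub_apply, Pi.mul_apply, tr_apply, mul_one, regInd_of_mem one_mem_Reg,
      regInd_of_not_mem hzA.2, h2 z hzA, Pi.smul_apply, smul_eq_mul, Pi.zero_apply] at this
    linear_combination this
  have h7 := normedTI_Ind_id h.normedTI hαA hzA (mem_top z)
  rw [hθ] at h7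
  simp only [hα, Pi.add_apply, cf1E (mem_top z), Pi.smul_apply, tr_apply, h.zz, Pi.mul_apply,
    regInd_of_mem one_mem_Reg, smul_eq_mul, h.del_zreg (h.zz ▸ one_mem_Reg)] at h7
  refine false_of_norm_three hgen hodd hc hb hc1 (fun g hg => ?_)
    (by rw [show 1 + c z = b z by linear_combination h7 - 2 * h6])
  have := cfInd_suppOn ⊤ H hαA.2 g fun ⟨a, ha, k, _, e⟩ => ha.2 ⟨ha.1, by
    rwa [e, orderOf_conj] at hg⟩
  rwa [hθ, Pi.add_apply, Pi.add_apply, cf1E (mem_top g)] at this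

theorem false_of (hgen : normalClosure ({z} : Set G) = ⊤)
    (hodd : ∀ g : G, ¬ 2 ∣ orderOf (g * z * g⁻¹ * z)) : False := by
  obtain ⟨ξ, hξ, e⟩ := h.exists_faithful
  obtain ⟨τ, hτ, hZ, h1⟩ := h.exists_alpha hξ e
  have hξ' := isIrr_of_mem_B0 hξ
  have hαA : (2 * τ) • tr z (regInd 2 H * ξ) + (2 : ℂ) • del z H ∈ CFon H ((H : Set G) \ Reg 2 H) :=
    add_mem (Submodule.smul_mem _ _ (h.tr_reg_on hξ'.mem_CF)) (Submodule.smul_mem _ _ h.del_on)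
  have h2 := h.cfdot_tr_reg_del (prB_of_mem hξ)
  have h3 : ⟪del z H, del z H⟫[H] = 1 / 4 := by rw [h.cfdot_del h.prB_del, h.del_x']
  have hone : ∀ φ ∈ CF H, ⟪cfInd ⊤ H φ, cf1 ⊤⟫[⊤] = ⟪φ, cf1 H⟫[H] := fun φ hφ => by
    rw [cfdot_cfInd_left le_top hφ.1 (cf1_mem_CF ⊤), ← cfdot_cfRes_right, cfRes_cf1 le_top]
  obtain ⟨c, b, hc, hb, hc1, hb1, hcb, hθ⟩ := exists_dirr_of_norm_three (cfInd_vchar le_top hZ)
    (by
      rw [normedTI_isometry h.normedTI hαA hαA]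
      simp only [cfdotDl, cfdotDr, cfdotZl, cfdotZr, h2, cfdot_symm0 h2, h3]
      rw [h.cfdot_tr, h.tr_tr, h.cfdot_reg_self hξ e]
      rcases hτ with rfl | rfl <;> norm_num [Complex.conj_ofNat])
    (by rw [hone _ hαA.1, h1])
  have hβ : (4 : ℂ) • cfInd ⊤ H (del z H) ∈ ZIrr ⊤ := by
    rw [← map_smul]
    refine cfInd_vchar le_top (vchar_of_cfdot (Submodule.smul_mem _ _ h.del_mem) fun χ hχ => ?_)
    by_cases h4 : χ ∈ B0 2 H
    · rw [cfdotZl, cfdotC, h.cfdot_del (prB_of_mem h4), map_div₀, Complex.conj_ofNat,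
        (h.cint_x (irr_vchar hχ)).conj_eq, mul_div_cancel₀ _ (by norm_num)]
      exact h.cint_x (irr_vchar hχ)
    · rw [cfdotZl, ← h.prB_del, cfdot_prB_of_not_mem _ hχ h4, mul_zero]; exact isCint_zero
  set β := (4 : ℂ) • cfInd ⊤ H (del z H) with hβdef
  have h4 : ⟪β, cf1 ⊤⟫[⊤] = 1 := by rw [hβdef, cfdotZl, hone _ h.del_mem, h.cfdot_del_one]; norm_num
  have h5 : cfnorm ⊤ (β - cf1 ⊤) = 3 := cfnorm_eq_of_cfdot (by
    rw [cfdotBl, cfdotBr, cfdotBr, h4, cfdotC (cf1 ⊤), h4, cfdot_cf1, hβdef, cfdotZl, cfdotZr,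
      normedTI_isometry h.normedTI h.del_on h.del_on, h3]
    norm_num [Complex.conj_ofNat])
  have h6 : ∀ d, IsDirr ⊤ d → ⟪d, cf1 ⊤⟫[⊤] = 0 → ⟪β, d⟫[⊤] ≠ 0 → ⟪β, d⟫[⊤] = 1 ∨ ⟪β, d⟫[⊤] = -1 :=
    fun d hd hd1 hd0 => (Cint_cfdot_vchar hβ hd.vchar).eq_one_or_neg_one hd0 (by
      have := cfCauchySchwarz (H := ⊤) (β - cf1 ⊤) d
      rw [cfdotBl, cfdot_symm0 hd1, sub_zero, h5, hd.cfnorm] at this
      linarith)
  have h7 : ⟪β, c⟫[⊤] + ⟪β, b⟫[⊤] = 1 := by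
    have h7 : ⟪β, cf1 ⊤ + c + b⟫[⊤] = 2 := by
      rw [← hθ, hβdef, cfdotZl, normedTI_isometry h.normedTI h.del_on hαA, cfdotDr, cfdotZr, cfdotZr,
        cfdot_symm0 h2, h3]
      norm_num [Complex.conj_ofNat]
    rw [cfdotDr, cfdotDr, h4] at h7
    linear_combination h7
  have h8 : ∀ d, ⟪β, d⟫[⊤] = 0 → ⟪d, cfInd ⊤ H (del z H)⟫[⊤] = 0 := fun d hd => by
    rw [hβdef, cfdotZl, mul_eq_zero] at hd
    exact cfdot_symm0 (hd.resolve_left (by norm_num))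
  by_cases h9 : ⟪β, b⟫[⊤] = 0
  · exact h.key hgen hodd hξ e hτ hc hb hc1 hb1 hcb hθ (h8 b h9)
  by_cases h10 : ⟪β, c⟫[⊤] = 0
  · exact h.key hgen hodd hξ e hτ hb hc hb1 hc1 (cfdot_symm0 hcb) (hθ.trans (add_right_comm _ _ _))
      (h8 c h10)
  rcases h6 b hb hb1 h9 with e1 | e1 <;> rcases h6 c hc hc1 h10 with e2 | e2 <;>
    rw [e1, e2] at h7 <;> norm_num at h7

end Q8H

end Cfsg.Agent.R1
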