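import Cfsg.Agent.Lib.R1.BS16
import Cfsg.Agent.Lib.R1.BS8b
import Cfsg.Agent.Lib.R1.Hyp
import Cfsg.Agent.Lib.Transfer.Gruen
import Cfsg.Agent.Lib.PGrp.RankOne

/-!
# Glauberman's `Z*` theorem
-/

set_option autoImplicit false

namespace Cfsg.Agent.R1

open Subgroup Cfsg.Agent.OO Cfsg.Agent.Blk
open scoped ComplexConjugate

universe u

section
variable {G : Type u} [Group G] {a b s t u : G}

theorem pow_conj_right (ha : a * a = 1) (hb : b * b = 1) (j : ℕ) :
    (a * b) ^ j * b * ((a * b) ^ j)⁻¹ = (a * b) ^ (2 * j) * b := by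
  have h1 : b * (a * b)⁻¹ * b⁻¹ = a * b := by
    rw [mul_inv_rev, inv_eq_of_mul_eq_one_right ha, inv_eq_of_mul_eq_one_right hb, ← mul_assoc, hb,
      one_mul]
  rw [two_mul, pow_add, mul_assoc, mul_assoc, ← inv_pow]
  nth_rw 4 [← h1]
  rw [conj_pow, inv_mul_cancel_right]

theorem pow_conj_left (ha : a * a = 1) (hb : b * b = 1) (j : ℕ) :
    (a * b) ^ j * a * ((a * b) ^ j)⁻¹ = (a * b) ^ (2 * j + 1) * b := by
  have h1 : a * (a * b)⁻¹ * a⁻¹ = a * b := by
    rw [mul_inv_rev, inv_eq_of_mul_eq_one_right ha, inv_eq_of_mul_eq_one_right hb, mul_assoc,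
      mul_assoc, ha, mul_one]
  rw [pow_succ, mul_assoc _ _ b, mul_assoc a, hb, mul_one, two_mul, pow_add, mul_assoc, mul_assoc,
    ← inv_pow]
  nth_rw 4 [← h1]
  rw [conj_pow, inv_mul_cancel_right]

theorem commute_of_pow_sq (ha : a * a = 1) (hb : b * b = 1) {m : ℕ} (h : (a * b) ^ (2 * m) = 1) :
    Commute ((a * b) ^ m) b := by
  have := pow_conj_right ha hb m
  rwa [h, one_mul, mul_inv_eq_iff_eq_mul] at this

theorem exists_conj_of_odd (ha : a * a = 1) (hb : b * b = 1) (h : ¬ 2 ∣ orderOf (a * b)) :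
    ∃ j : ℕ, (a * b) ^ j * b * ((a * b) ^ j)⁻¹ = a := by
  obtain ⟨j, hj⟩ : ∃ j, orderOf (a * b) = 2 * j + 1 := ⟨orderOf (a * b) / 2, by omega⟩
  exact ⟨j + 1, by
    rw [pow_conj_right ha hb, mul_add, mul_one, pow_succ, ← hj, pow_orderOf_eq_one, one_mul,
      mul_assoc, hb, mul_one]⟩

/-- the product of two conjugates of `t` has odd order -/
def OddConj (t : G) : Prop := ∀ g : G, ¬ 2 ∣ orderOf (g * t * g⁻¹ * t)

theorem OddConj.eq_of_commute (h : OddConj t) (ht : t * t = 1) {g : G}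
    (hc : Commute (g * t * g⁻¹) t) : g * t * g⁻¹ = t := by
  have h1 : (g * t * g⁻¹ * t) ^ 2 = 1 := by
    rw [hc.mul_pow, conj_pow, pow_two, ht]; simp
  have h2 := ((Nat.dvd_prime Nat.prime_two).1 (orderOf_dvd_of_pow_eq_one h1)).resolve_right
    fun e => h g e.symm.dvd
  rw [orderOf_eq_one_iff, mul_eq_one_iff_eq_inv] at h2
  rw [h2, inv_eq_of_mul_eq_one_right ht]

theorem OddConj.map {G' : Type u} [Group G'] (h : OddConj t) {f : G →* G'}
    (hf : Function.Surjective f) : OddConj (f t) := fun g h' => by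
  obtain ⟨g, rfl⟩ := hf g
  exact h g (h'.trans (by simpa using orderOf_map_dvd f (g * t * g⁻¹ * t)))

theorem OddConj.subgroup (h : OddConj t) {H : Subgroup G} (ht : t ∈ H) : OddConj (⟨t, ht⟩ : H) :=
  fun g h' => h g (by rwa [← orderOf_coe] at h')

variable [Finite G]

theorem oddConj_of_isolated (ht : t * t = 1)
    (h : ∀ g : G, t * (g * t * g⁻¹) = g * t * g⁻¹ * t → g * t * g⁻¹ = t) : OddConj t := by
  rintro g ⟨m, hm⟩
  have ha : g * t * g⁻¹ * (g * t * g⁻¹) = 1 := by rw [conj_mul, ht]; simp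
  have h1 := commute_of_pow_sq ha ht (hm ▸ pow_orderOf_eq_one _)
  have h2 : ∃ k, k * t * k⁻¹ = (g * t * g⁻¹ * t) ^ m * t := by
    obtain ⟨j, rfl | rfl⟩ := Nat.even_or_odd' m
    · exact ⟨_, pow_conj_right ha ht j⟩
    · exact ⟨(g * t * g⁻¹ * t) ^ j * g, by rw [← pow_conj_left ha ht j]; group⟩
  obtain ⟨k, hk⟩ := h2
  have h3 := h k (by rw [hk]; exact ((h1.mul_left (Commute.refl t)).symm).eq)
  rw [hk, mul_eq_right] at h3
  have h4 := orderOf_pos (g * t * g⁻¹ * t)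
  have h5 := Nat.le_of_dvd (by omega) (orderOf_dvd_of_pow_eq_one h3)
  omega

theorem q8_fusion {S : Sylow 2 G} (hS : ♯(S : Subgroup G) = 8)
    (hord : ∀ u ∈ (S : Subgroup G), u * u ≠ 1 → orderOf u = 4)
    (hinv : ∀ s ∈ (S : Subgroup G), s * s = 1 → s = 1 ∨ s = t) (hperf : commutator G = ⊤)
    (ha : a ∈ (S : Subgroup G)) (ha2 : a * a ≠ 1) (hu : u ∈ (S : Subgroup G)) (hu2 : u * u ≠ 1) :
    IsConj a u := by
  have hsq : ∀ u ∈ (S : Subgroup G), u * u ≠ 1 → u * u = t := fun u hu hu2 =>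
    (hinv _ (mul_mem hu hu) (sq_mul_sq_of_order_four (hord u hu hu2))).resolve_left hu2
  have hidx : ∀ u ∈ (S : Subgroup G), u * u ≠ 1 → (zpowers u).relIndex S = 2 := fun u hu hu2 => by
    have := card_mul_relIndex (zpowers_le.2 hu)
    rw [Nat.card_zpowers, hord u hu hu2, hS] at this
    omega
  have hmul : ∀ u ∈ (S : Subgroup G), u * u ≠ 1 → ∀ v ∈ (S : Subgroup G), ∀ w ∈ (S : Subgroup G),
      v * w ∈ zpowers u ↔ (v ∈ zpowers u ↔ w ∈ zpowers u) := fun u hu hu2 v hv w hw =>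
    mul_mem_iff_of_index_two (H := (zpowers u).subgroupOf S) (hidx u hu hu2) (a := ⟨v, hv⟩)
      (b := ⟨w, hw⟩)
  have hmem : ∀ u ∈ (S : Subgroup G), u * u ≠ 1 → ∀ v ∈ (S : Subgroup G), v * v = 1 →
      v ∈ zpowers u := fun u hu hu2 v hv hv2 => by
    rcases hinv v hv hv2 with rfl | rfl
    · exact one_mem _
    · exact hsq u hu hu2 ▸ mul_mem (mem_zpowers u) (mem_zpowers u)
  have F1 : ∀ u ∈ (S : Subgroup G), u * u ≠ 1 →
      ∃ v ∈ (S : Subgroup G), v * v ≠ 1 ∧ v ∉ zpowers u ∧ IsConj u v := fun u hu hu2 => by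
    by_contra h
    push Not at h
    have h1 : ∀ a ∈ zpowers u, ∀ g : G, g * a * g⁻¹ ∈ (S : Subgroup G) → g * a * g⁻¹ ∈ zpowers u := by
      intro a ha g hg
      by_cases h2 : a * a = 1
      · exact hmem u hu hu2 _ hg (by rw [conj_mul, h2]; simp)
      have h3 : ∀ g : G, g * u * g⁻¹ ∈ (S : Subgroup G) → g * u * g⁻¹ ∈ zpowers u := fun g hg =>
        by_contra fun e => h _ hg (by rwa [conj_mul, Ne, conj_eq_one_iff]) e (isConj_iff.2 ⟨g, rfl⟩)
      rcases eq_or_eq_inv_of_order_four (hord u hu hu2) ha h2 with rfl | rfl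
      · exact h3 g hg
      · rw [← conj_inv, inv_mem_iff] at hg ⊢; exact h3 g hg
    have h2 := Transfer.sylow_inf_commutator_le_of_fusion S (D := zpowers u) fun a ha g hg =>
      (hmul u hu hu2 _ (inv_mem ha) _ hg).2 ⟨fun e => h1 a (inv_mem_iff.1 e) g hg, fun e => by
        simpa [mul_assoc] using h1 _ e g⁻¹ (by simpa [mul_assoc] using ha)⟩
    rw [hperf, inf_top_eq, ← relIndex_eq_one, hidx u hu hu2] at h2
    omega
  have F2 : ∀ u ∈ (S : Subgroup G), u * u ≠ 1 → ∀ v ∈ zpowers u, v * v ≠ 1 → IsConj u v := by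
    intro u hu hu2 v hv hv2
    rcases eq_or_eq_inv_of_order_four (hord u hu hu2) hv hv2 with rfl | rfl
    · exact IsConj.refl _
    obtain ⟨w, hw, hw2, hwu, -⟩ := F1 u hu hu2
    have h1 := hsq _ (mul_mem hw hu) fun e => hwu ((zpowers u).mul_mem_cancel_right (mem_zpowers u) |>.1
      (hmem u hu hu2 _ (mul_mem hw hu) e))
    rw [← hsq w hw hw2, mul_assoc, mul_right_inj] at h1
    exact isConj_iff.2 ⟨w, by
      calc _ = u⁻¹ * (u * (w * u)) * w⁻¹ := by group
        _ = _ := by rw [h1, mul_inv_cancel_right]⟩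
  by_contra h
  obtain ⟨a', ha', ha'2, haa', h1⟩ := F1 a ha ha2
  obtain ⟨u', hu', hu'2, huu', h2⟩ := F1 u hu hu2
  have h3 : ∀ v, IsConj u v → v * v ≠ 1 → v ∉ zpowers a ∧ v ∉ zpowers a' := fun v hv hv2 =>
    ⟨fun e => h ((F2 a ha ha2 v e hv2).trans hv.symm),
      fun e => h ((h1.trans (F2 a' ha' ha'2 v e hv2)).trans hv.symm)⟩
  have h4 := (hmul a ha ha2 u hu u' hu').2 (iff_of_false (h3 u (IsConj.refl u) hu2).1 (h3 u' h2 hu'2).1)
  have h5 := (hmul a' ha' ha'2 u hu u' hu').2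
    (iff_of_false (h3 u (IsConj.refl u) hu2).2 (h3 u' h2 hu'2).2)
  refine huu' (((zpowers u).mul_mem_cancel_left (mem_zpowers u)).1
    (hmem u hu hu2 _ (mul_mem hu hu') (by_contra fun e => haa' ?_)))
  rcases eq_or_eq_inv_of_order_four (hord a' ha' ha'2) h5 e with e' | e'
  · exact e' ▸ h4
  · exact inv_mem_iff.1 (e' ▸ h4)

theorem exists_invol_mem {H : Subgroup G} (h : 2 ∣ ♯H) : ∃ z ∈ H, z ≠ 1 ∧ z * z = 1 := by
  obtain ⟨z, hz⟩ := exists_prime_orderOf_dvd_card' (G := H) 2 h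
  rw [← orderOf_coe] at hz
  exact ⟨z, z.2, fun e => by simp [e] at hz, (pow_two _).symm.trans (hz ▸ pow_orderOf_eq_one _)⟩

/-- the Brauer-Suzuki case -/
theorem false_of_unique_invol (ht : t * t = 1) (ht1 : t ≠ 1) (hodd : OddConj t)
    (hO : pPrimeCore 2 G = ⊥) (hgen : normalClosure ({t} : Set G) = ⊤) (hC : 𝐂[t] ≠ ⊤)
    (hinv : ∀ s, s * s = 1 → Commute s t → s = 1 ∨ s = t) : False := by
  obtain ⟨S, hS⟩ := (Core.isPGroup_zpowers_of_pow_eq_one (p := 2) (x := t) (k := 1)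
    ((pow_two t).trans ht)).exists_le_sylow
  have htS : t ∈ (S : Subgroup G) := hS (mem_zpowers t)
  have hSt : (S : Subgroup G) ≤ 𝐂[t] := by
    have : Nontrivial (S : Subgroup G) := ⟨⟨⟨t, htS⟩, 1, fun e => ht1 (congrArg Subtype.val e)⟩⟩
    have h1 := S.isPGroup'.center_nontrivial
    obtain ⟨z, hz, hz1, hz2⟩ := exists_invol_mem (H := center (S : Subgroup G))
      ((S.isPGroup'.to_subgroup _).card_eq_or_dvd.resolve_left Finite.one_lt_card.ne')
    have h2 := (hinv z (congrArg Subtype.val hz2) (congrArg Subtype.val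
      (mem_center_iff.1 hz ⟨t, htS⟩)).symm).resolve_left fun e => hz1 (Subtype.ext e)
    exact fun g hg => mem_cent1.2 (h2 ▸ congrArg Subtype.val (mem_center_iff.1 hz ⟨g, hg⟩))
  have hinvS : ∀ s ∈ (S : Subgroup G), s * s = 1 → s = 1 ∨ s = t := fun s hs h =>
    hinv s h (mem_cent1.1 (hSt hs))
  have hcard : ♯(S : Subgroup G) * (S : Subgroup G).index = Nat.card G := card_mul_index _
  have hrank : PRankLE 2 1 (S : Subgroup G) := PGrp.rank_le_one_of_unique fun x y hx hy => by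
    have h1 : ∀ x : (S : Subgroup G), orderOf x = 2 → (x : G) = t := fun x hx =>
      (hinvS x x.2 (congrArg Subtype.val ((pow_two x).symm.trans (hx ▸ pow_orderOf_eq_one x)))).resolve_left
        fun e => by simp [Subtype.ext (a2 := (1 : (S : Subgroup G))) e] at hx
    rw [Subtype.ext ((h1 y hy).trans (h1 x hx).symm)]
    exact mem_zpowers x
  rcases PGrp.isCyclic_or_quaternion_gens_of_rank_le_one S.isPGroup' hrank with
    hc | ⟨-, n, a, y, hn, h1, h2, -, h3, -⟩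
  · obtain ⟨a, ha⟩ := hc.exists_ofOrder_eq_natCard
    obtain ⟨n, hn⟩ := S.isPGroup'.exists_card_eq
    obtain ⟨n, rfl⟩ := Nat.exists_eq_succ_of_ne_zero (n := n) (by
      rintro rfl
      exact ht1 ((eq_bot_of_card_eq _ hn).le htS))
    obtain ⟨K, hK, hKc, hKd, -⟩ := exists_cyclic_compl (mem_top (a : G))
      (by rw [orderOf_coe, ha, hn]) (by rw [card_top, ← hcard, hn]) S.not_dvd_index
    have := normalizer_eq_top_iff.1 (top_le_iff.1 hK.2)
    have h1 := hKd.trans (Core.le_pPrimeCore_of_not_dvd (hKc ▸ S.not_dvd_index))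
    rw [hO, le_bot_iff, commutator_eq_bot_iff_le_centralizer] at h1
    exact hC (top_le_iff.1 (h1.trans (centralizer_le (Set.subset_univ _))))
  obtain ⟨n, rfl⟩ := Nat.exists_eq_add_of_le' hn
  have hQ : QH n (S : Subgroup G).index (a : G) y :=
    ⟨by rw [orderOf_coe, h2], congrArg Subtype.val h3, by rw [← hcard, h1], S.not_dvd_index⟩
  rcases n with _ | n
  swap
  · exact hQ.false_of_large ht hgen hodd
  have ha : orderOf (a : G) = 4 := hQ.ord
  have ha2 := (hinvS _ (mul_mem a.2 a.2) (sq_mul_sq_of_order_four ha)).resolve_left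
    (sq_ne_one_of_order_four ha)
  have hord : ∀ u ∈ (S : Subgroup G), u * u ≠ 1 → orderOf u = 4 := fun u hu hu2 => by
    obtain ⟨k, hk, e⟩ := (Nat.dvd_prime_pow Nat.prime_two).1 (h1 ▸ Subgroup.orderOf_dvd_natCard _ hu)
    have h4 : ¬ orderOf u ∣ 2 := fun h => hu2 ((pow_two u).symm.trans (orderOf_dvd_iff_pow_eq_one.1 h))
    interval_cases k
    · simp [e] at h4
    · simp [e] at h4
    · exact e
    · have h5 : zpowers u = S := eq_of_le_of_card_ge (zpowers_le.2 hu) (by rw [Nat.card_zpowers, e, h1])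
      obtain ⟨i, hi⟩ := h5.ge a.2
      obtain ⟨j, hj⟩ := h5.ge y.2
      refine absurd (mem_cent1.2 ?_) hQ.y_not_mem
      rw [← hi, ← hj]
      exact ((Commute.refl u).zpow_zpow j i).pow_right _
  have hperf : commutator G = ⊤ := top_le_iff.1 (hgen.ge.trans (normalClosure_le_normal (by
    have := commutator_mem_commutator (mem_top (a : G)) (mem_top (y : G))
    rw [commutatorElement_def, mul_assoc, mul_assoc, ← mul_assoc (y : G), ← conj_inv, hQ.inv,
      inv_inv, ha2] at this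
    exact Set.singleton_subset_iff.2 this)))
  obtain ⟨m', h4, h5⟩ := hQ.card_cent
  rw [pow_zero, pow_one] at h4
  obtain ⟨K, hK, hKc, -, hKr⟩ := exists_cyclic_compl (n := 1) (mem_cent1_self (a : G)) ha h4 h5
  refine Q8H.false_of (x := a) (K := K) (m := (S : Subgroup G).relIndex 𝐂[t]) ⟨ha, ha2, rfl,
    fun s hs h => hinv s h (mem_cent1.1 hs), fun u hu ⟨k, hk⟩ => ?_,
    by rw [← card_mul_relIndex hSt, h1], fun h => S.not_dvd_index (h.trans (relIndex_dvd_index_of_le hSt)),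
    hK, by rw [h4, hKc]; rfl, hKc ▸ h5, hKr⟩ hgen hodd
  refine or_iff_not_imp_left.2 fun hu2 => ?_
  obtain ⟨g, hg⟩ := (Coprime.isSylowIn_top S).exists_le_conj le_top
    (Core.isPGroup_zpowers_of_pow_eq_one hk)
  obtain ⟨v, hv, rfl⟩ := hg.2 (mem_zpowers u)
  simp only [MulEquiv.toMonoidHom_eq_coe, MonoidHom.coe_coe, MulAut.conj_apply] at hu hu2 ⊢
  obtain ⟨c, rfl⟩ := isConj_iff.1 (q8_fusion h1 hord hinvS hperf a.2 (sq_ne_one_of_order_four ha) hv
    (by rwa [conj_mul, conj_eq_one_iff] at hu2))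
  refine ⟨g * c, mem_cent1_iff_conj.2 (hodd.eq_of_commute ht ?_), by group⟩
  have := mem_cent1.1 (mul_mem hu hu)
  rwa [conj_mul, conj_mul, ha2, show g * (c * t * c⁻¹) * g⁻¹ = g * c * t * (g * c)⁻¹ by group] at this

end

theorem zstar_aux (G : Type u) [Group G] [Finite G] : ∀ t : G, t * t = 1 → OddConj t →
    ∀ g : G, g * t * g⁻¹ * t⁻¹ ∈ pPrimeCore 2 G := by
  refine Core.induction_on_card (P := fun G _ _ => ∀ t : G, t * t = 1 → OddConj t →
    ∀ g : G, g * t * g⁻¹ * t⁻¹ ∈ pPrimeCore 2 G) (fun G _ _ ih t ht hodd g₀ => ?_) G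
  have hti : t⁻¹ = t := inv_eq_of_mul_eq_one_right ht
  have ihq : ∀ (N : Subgroup G) [N.Normal], N ≠ ⊥ → ∀ g, g * t * g⁻¹ * t⁻¹ ∈
      (pPrimeCore 2 (G ⧸ N)).comap (QuotientGroup.mk' N) := fun N _ hN g => by
    simpa using ih _ (Core.card_quotient_lt hN) (QuotientGroup.mk' N t) (by rw [← map_mul, ht, map_one])
      (hodd.map (QuotientGroup.mk'_surjective N)) (QuotientGroup.mk' N g)
  have ihs : ∀ H : Subgroup G, H ≠ ⊤ → t ∈ H → ∀ g ∈ H, g * t * g⁻¹ * t⁻¹ ∈
      (pPrimeCore 2 H).map H.subtype := fun H hH htH g hg =>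
    ⟨_, ih _ (Core.card_lt_of_ne_top hH) ⟨t, htH⟩ (Subtype.ext ht) (hodd.subgroup htH) ⟨g, hg⟩, rfl⟩
  by_cases hO : pPrimeCore 2 G = ⊥
  swap
  · exact Core.comap_mk_pPrimeCore (Core.coprime_card_pPrimeCore (G := G) 2) ▸ ihq _ hO g₀
  by_contra h0
  replace h0 : 𝐂[t] ≠ ⊤ := fun e => h0 (by
    rw [mem_cent1_iff_conj.1 (e ▸ mem_top g₀), mul_inv_cancel]; exact one_mem _)
  have hcent : ∀ z : G, z ≠ 1 → z * z = 1 → 𝐂[z] ≠ ⊤ := fun z hz1 hz2 hz => by
    have hzo : orderOf z = 2 := orderOf_eq_prime ((pow_two z).trans hz2) hz1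
    have : (zpowers z).Normal := normalizer_eq_top_iff.1 (top_le_iff.1
      (hz.ge.trans (QH.cent_normal z).1))
    obtain ⟨K, hK, hKc, -, hKr⟩ := exists_cyclic_compl (n := 0)
      (C := (pPrimeCore 2 (G ⧸ zpowers z)).comap (QuotientGroup.mk' _)) (a := z)
      (by simp [(QuotientGroup.eq_one_iff z).2 (mem_zpowers z)]) hzo
      (by rw [Core.card_comap_mk, Nat.card_zpowers, hzo]; rfl) Core.not_dvd_card_pPrimeCore
    have : K.Normal := ⟨fun k hk g => (hKr _).1 ⟨Normal.conj_mem inferInstance _ (hK.1 hk) g, by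
      rw [orderOf_conj]; exact ((hKr _).2 hk).2⟩⟩
    have h1 : K ≤ ⊥ := hO ▸ Core.le_pPrimeCore_of_not_dvd (hKc ▸ Core.not_dvd_card_pPrimeCore)
    refine h0 (top_le_iff.1 fun g _ => mem_cent1_iff_conj.2 (mul_inv_eq_one.1 (h1 ((hKr _).1
      ⟨ihq _ (by simpa using hz1) g, hti.symm ▸ hodd g⟩))))
  have hgen : normalClosure ({t} : Set G) = ⊤ := by
    by_contra h
    have h1 : t ∈ normalClosure ({t} : Set G) := subset_normalClosure rfl
    refine h0 (top_le_iff.1 fun g _ => mem_cent1_iff_conj.2 (hodd.eq_of_commute ht ?_))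
    have := Core.map_pPrimeCore_subtype_le _ (ihs _ h h1 _ (Normal.conj_mem inferInstance _ h1 g))
    rwa [hO, mem_bot, mul_inv_eq_one, mul_inv_eq_iff_eq_mul] at this
  have ht1 : t ≠ 1 := by rintro rfl; exact h0 (by simp)
  refine false_of_unique_invol ht ht1 hodd hO hgen h0 fun s hs hst => by_contra fun h => ?_
  push Not at h
  have key : ∀ s : G, s * s = 1 → Commute s t → s ≠ t → ∀ χ ∈ B0 2 (⊤ : Subgroup G),
      χ 1 * χ (s * t) = χ s * χ t := by
    intro s hs hst hne χ hχ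
    have hχ' := isIrr_of_mem_B0 hχ
    have h1 := sum_conj_mul hχ' (mem_top s) t
    rw [Finset.sum_congr rfl (g := fun _ => χ (s * t)) fun g _ => ?_, sum_elts_const, nsmul_eq_mul,
      mul_left_comm, mul_assoc] at h1
    · exact mul_left_cancel₀ (cardC_ne_zero _) h1
    have ha : g * s * g⁻¹ * (g * s * g⁻¹) = 1 := by rw [conj_mul, hs]; simp
    set a := g * s * g⁻¹ with hadef
    obtain ⟨m, hm⟩ : 2 ∣ orderOf (a * t) := by_contra fun e => by
      obtain ⟨j, hj⟩ := exists_conj_of_odd ha ht e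
      have h2 : g⁻¹ * (a * t) ^ j * t * (g⁻¹ * (a * t) ^ j)⁻¹ = s := by
        calc _ = g⁻¹ * ((a * t) ^ j * t * ((a * t) ^ j)⁻¹) * g := by group
          _ = s := by rw [hj, hadef]; group
      exact hne (h2 ▸ hodd.eq_of_commute ht (h2.symm ▸ hst))
    have hpos := orderOf_pos (a * t)
    have hz2 : (a * t) ^ (2 * m) = 1 := hm ▸ pow_orderOf_eq_one _
    have hz1 : (a * t) ^ m ≠ 1 := fun e => by
      have := Nat.le_of_dvd (by omega) (orderOf_dvd_of_pow_eq_one e)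
      omega
    have hzz : (a * t) ^ m * (a * t) ^ m = 1 := by rw [← pow_add, ← two_mul, hz2]
    have hzt := commute_of_pow_sq ha ht hz2
    have htC : t ∈ 𝐂[(a * t) ^ m] := mem_cent1.2 hzt.symm
    have haC : a ∈ 𝐂[(a * t) ^ m] := ((𝐂[(a * t) ^ m]).mul_mem_cancel_right htC).1 (QH.a_mem _ m)
    have h2 := ihs _ (hcent _ hz1 hzz) htC a haC
    rw [hti, inv_eq_of_mul_eq_one_right ha, mul_assoc (a * t), ← pow_two] at h2
    set O := (pPrimeCore 2 𝐂[(a * t) ^ m]).map (𝐂[(a * t) ^ m]).subtype with hOdef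
    have hOc : ¬ 2 ∣ ♯O := by rw [hOdef, card_subtype]; exact Core.not_dvd_card_pPrimeCore
    obtain ⟨j, rfl | rfl⟩ := Nat.even_or_odd' m
    · exact absurd ((orderOf_eq_prime ((pow_two _).trans hzz) hz1).symm.dvd.trans
        (Subgroup.orderOf_dvd_natCard O (pow_mul (a * t) 2 j ▸ pow_mem h2 j))) hOc
    have h3 := apply_mul_eq_of_mem_B0 hχ (mem_top _) (k := 1) ((pow_two _).trans hzz) (N := O)
      (by
        rw [top_inf_eq]
        refine normalIn_iff_subgroupOf.2 ⟨map_subtype_le _, ?_⟩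
        rw [hOdef, subgroupOf, comap_map_eq_self_of_injective (subtype_injective _)]
        infer_instance) hOc (pow_mem h2 (j + 1))
    rw [← pow_mul, ← pow_add, show 2 * j + 1 + 2 * (j + 1) = 2 * (2 * j + 1) + 1 by ring, pow_succ,
      hz2, one_mul] at h3
    have h4 := pow_conj_left ha ht j
    set x := (a * t) ^ j * g with hx
    have h5 : x * s * x⁻¹ = (a * t) ^ (2 * j + 1) * t := by rw [← h4, hx, hadef]; group
    have h6 : Commute (x * s * x⁻¹) t := h5 ▸ hzt.mul_left (Commute.refl t)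
    have h7 : Commute (x * s * x⁻¹) (x * t * x⁻¹) := by
      rw [Commute, SemiconjBy, conj_mul, conj_mul, hst.eq]
    obtain ⟨i, hi⟩ := exists_conj_of_odd (a := x * t * x⁻¹) (by rw [conj_mul, ht]; simp) ht (hodd x)
    have h8 := ((h7.mul_right h6).pow_right i)
    set c := (x * t * x⁻¹ * t) ^ i
    rw [h3, ← cfunJ hχ'.mem_CF (mem_top (c⁻¹ * x)) (s * t)]
    congr 1
    calc _ = (a * t) ^ (2 * j + 1) * t * t := by rw [mul_assoc _ t t, ht, mul_one]
      _ = c⁻¹ * (c * (x * s * x⁻¹) * t) := by rw [← h5]; group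
      _ = c⁻¹ * (x * s * x⁻¹ * (c * t * c⁻¹)) * c := by rw [← h8.eq]; group
      _ = _ := by rw [hi]; group
  have hsing : ∀ s : G, s * s = 1 → s ≠ 1 → ∑ χ ∈ B0 2 (⊤ : Subgroup G), χ s * conj (χ 1) = 0 :=
    fun s hs h1 => weak_orth' one_mem_Reg (mem_top s)
      (orderOf_eq_prime ((pow_two s).trans hs) h1).symm.dvd
  have hst2 : s * t * (s * t) = 1 := by rw [← pow_two, hst.mul_pow, pow_two, pow_two, hs, ht, mul_one]
  have h1 := congrArg₂ (· + ·) (hsing s hs h.1) (hsing (s * t) hst2 fun e => h.2 (by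
    rw [eq_inv_of_mul_eq_one_left e, hti]))
  simp only [← Finset.sum_add_distrib] at h1
  rw [Finset.sum_eq_single (cf1 ⊤) (fun χ hχ hne => ?_) (fun h => absurd cf1_mem_B0 h)] at h1
  · simp only [cf1E (mem_top _), map_one] at h1
    norm_num at h1
  have hχ' := isIrr_of_mem_B0 hχ
  have h2 := key s hs hst h.2 χ hχ
  have h3 := key (s * t) hst2 (hst.mul_left (Commute.refl t)) (by simpa using h.1) χ hχ
  rw [mul_assoc, ht, mul_one] at h3
  have h4 : (χ s + χ (s * t)) * (χ t - χ 1) = 0 := by linear_combination -h2 - h3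
  rcases mul_eq_zero.1 h4 with h5 | h5
  · rw [← add_mul, h5, zero_mul]
  · have h7 : t ∈ cfker ⊤ χ := (cfkerEchar hχ'.isChar).2 ⟨mem_top t, sub_eq_zero.1 h5⟩
    have := normalizer_eq_top_iff.1 (top_le_iff.1 (cfker_normal hχ'.mem_CF).2)
    exact absurd (hχ'.le_cfker_iff.1 (hgen.ge.trans (normalClosure_le_normal (by simpa using h7)))) hne

/-- **Glauberman's `Z*` theorem** -/
theorem zstar : ZStar.{u} := fun G _ _ t ht h => zstar_aux G t ht (oddConj_of_isolated ht h)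

end Cfsg.Agent.R1
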