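import Cfsg.Agent.Lib.R1.Hyp

/-!
# Interfaces of the rank one programme, part 2
-/

set_option autoImplicit false

namespace Cfsg.Agent.R1

open Subgroup

universe u

/-- simple groups with Sylow 2-subgroups of order 4 -/
def GW4 : Prop := ∀ (G : Type u) [Group G] [Finite G], IsSimpleGroup G → ¬ IsMulCommutative G →
  ¬ 8 ∣ Nat.card G →
  ∃ (F : Type) (_ : Field F) (_ : Fintype F), 5 ≤ Fintype.card F ∧
    (Fintype.card F % 8 = 3 ∨ Fintype.card F % 8 = 5) ∧
    Nonempty (G ≃* Matrix.ProjectiveSpecialLinearGroup (Fin 2) F)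

/-- Gorenstein-Walter: simple groups with dihedral Sylow 2-subgroups -/
def GW : Prop := ∀ (G : Type u) [Group G] [Finite G], IsSimpleGroup G → ¬ IsMulCommutative G →
  (∃ (S : Sylow 2 G) (n : ℕ), Nonempty ((S : Subgroup G) ≃* DihedralGroup n)) →
  (∃ (F : Type) (_ : Field F) (_ : Fintype F), 5 ≤ Fintype.card F ∧ Odd (Fintype.card F) ∧
    Nonempty (G ≃* Matrix.ProjectiveSpecialLinearGroup (Fin 2) F)) ∨
  Nonempty (G ≃* alternatingGroup (Fin 7))

end Cfsg.Agent.R1
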