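import Cfsg.Agent.Lib.R1.Hyp2
import Cfsg.Agent.Lib.ZL.SEA

/-!
# Interfaces of the programme on abelian Sylow 2-subgroups (plan R3)
-/

set_option autoImplicit false

namespace Cfsg.Agent.R1

open Subgroup

universe u

/-- the Sylow 2-subgroups are abelian -/
def Ab2 (G : Type u) [Group G] : Prop := ∀ P : Subgroup G, IsPGroup 2 P → IsMulCommutative P

/-- simple groups of Janko-Ree type: one class of involutions, `C(t) = ⟨t⟩ × H`, and `H` lies between
`L = L₂(q)` and its automorphism group with odd index, `q ≡ ±3 (mod 8)`. -/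
structure JRs {G : Type u} [Group G] (t : G) (H L : Subgroup G) (F : Type) [Field F] [Fintype F] :
    Prop where
  simple : IsSimpleGroup G
  t1 : t ≠ 1
  t2 : t * t = 1
  conj : ∀ a : G, a ≠ 1 → a * a = 1 → IsConj a t
  cent : ∀ g : G, g * t = t * g ↔ g ∈ H ∨ g * t ∈ H
  tH : t ∉ H
  le : L ≤ H
  norm : H ≤ normalizer (L : Set G)
  odd : Odd (L.relIndex H)
  centL : H ⊓ centralizer (L : Set G) = ⊥
  five : 5 ≤ Fintype.card F
  mod : Fintype.card F % 8 = 3 ∨ Fintype.card F % 8 = 5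
  iso : Nonempty (L ≃* Matrix.ProjectiveSpecialLinearGroup (Fin 2) F)

/-- the simple groups in the conclusion of Walter's theorem -/
def AStar (G : Type u) [Group G] : Prop :=
  (∃ n : ℕ, 2 ≤ n ∧ Nonempty (G ≃* Matrix.ProjectiveSpecialLinearGroup (Fin 2) (GaloisField 2 n))) ∨
  (∃ (F : Type) (_ : Field F) (_ : Fintype F), 5 ≤ Fintype.card F ∧
    (Fintype.card F % 8 = 3 ∨ Fintype.card F % 8 = 5) ∧
    Nonempty (G ≃* Matrix.ProjectiveSpecialLinearGroup (Fin 2) F)) ∨
  ∃ (t : G) (H L : Subgroup G) (F : Type) (_ : Field F) (_ : Fintype F), JRs t H L F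

/-- Walter's theorem -/
def Walter : Prop := ∀ (G : Type u) [Group G] [Finite G], IsSimpleGroup G → ¬ IsMulCommutative G →
  Ab2 G → AStar G

/-- Walter's theorem for groups of order less than `n` -/
def KHyp (n : ℕ) : Prop := ∀ (X : Type u) [Group X] [Finite X], Nat.card X < n → IsSimpleGroup X →
  ¬ IsMulCommutative X → Ab2 X → AStar X

/-- groups of Janko-Ree type -/
def JR : Prop := ∀ (G : Type u) [Group G] [Finite G] (t : G) (H L : Subgroup G) (F : Type) [Field F]
  [Fintype F], JRs t H L F → (Fintype.card F = 5 ∧ Nat.card G = 175560) ∨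
    (∃ k : ℕ, 1 ≤ k ∧ Fintype.card F = 3 ^ (2 * k + 1) ∧
      Nat.card (Sylow 3 G) = Fintype.card F ^ 3 + 1 ∧
      MulAction.IsMultiplyPretransitive G (Sylow 3 G) 2)

/-- abelian Sylow 2-subgroups of rank at most 2 have order at most 4 -/
def W0 : Prop := ∀ (G : Type u) [Group G] [Finite G], IsSimpleGroup G → ¬ IsMulCommutative G →
  Ab2 G → (∀ A : Subgroup G, IsElementaryAbelian 2 A → Nat.card A < 8) → ¬ 8 ∣ Nat.card G

/-- the strongly embedded case of Walter's theorem -/
def SEW : Prop := ∀ (G : Type u) [Group G] [Finite G] (M A : Subgroup G), IsSimpleGroup G →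
  ¬ IsMulCommutative G → Ab2 G → KHyp.{u} (Nat.card G) → IsElementaryAbelian 2 A → 8 ≤ Nat.card A →
  ZL.SE M → ∃ n : ℕ, 2 ≤ n ∧
    Nonempty (G ≃* Matrix.ProjectiveSpecialLinearGroup (Fin 2) (GaloisField 2 n))

/-- the rank 3 case of Walter's theorem -/
def W3 : Prop := ∀ (G : Type u) [Group G] [Finite G] (A : Subgroup G), IsSimpleGroup G →
  ¬ IsMulCommutative G → Ab2 G → KHyp.{u} (Nat.card G) → IsElementaryAbelian 2 A → Nat.card A = 8 →
  (∀ B : Subgroup G, IsElementaryAbelian 2 B → Nat.card B ≤ 8) → (∀ M : Subgroup G, ¬ ZL.SE M) →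
  ∃ (t : G) (H L : Subgroup G) (F : Type) (_ : Field F) (_ : Fintype F), JRs t H L F

/-- the case of rank at least 4 of Walter's theorem -/
def W4 : Prop := ∀ (G : Type u) [Group G] [Finite G] (A : Subgroup G), IsSimpleGroup G →
  ¬ IsMulCommutative G → Ab2 G → KHyp.{u} (Nat.card G) → IsElementaryAbelian 2 A → 16 ≤ Nat.card A →
  ∃ M : Subgroup G, ZL.SE M

end Cfsg.Agent.R1
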