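import Mathlib
import Cfsg.Agent.Lib.R1.Hyp
import Cfsg.Agent.Lib.BSW.SzIso

/-!
The second half of Suzuki's theorem on Zassenhaus groups of odd degree.
-/

set_option autoImplicit false

namespace Cfsg.Agent.R1

universe u

theorem zt_of_zt1 (h : ZT1.{u}) : ZT.{u} := fun G _ _ H t hC => by
  rcases h G H t hC with h | ⟨h2, hq⟩
  · obtain ⟨n, hn, h1, -, h2⟩ := hC.main fun x hx j hj =>
      (hC.comm hx (h x hx) (hC.K_conj_mem hj hx)).symm
    exact Or.inl ⟨n, hn, h1, h2⟩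
  · exact Or.inr (hC.suzuki h2 hq)

end Cfsg.Agent.R1
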