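import Mathlib
import Cfsg.Agent.Lib.R1.ZT2
import Cfsg.Agent.Lib.BSW.Feit
import Cfsg.Agent.Lib.Suz2.Cyclic

/-!
Suzuki's theorem on Zassenhaus groups of odd degree.
-/

set_option autoImplicit false

namespace Cfsg.Agent.R1

open Subgroup BSW

universe u

theorem zt1 : ZT1.{u} := fun G _ _ H t hC => by
  obtain ⟨n, hn, a, k, fr, -⟩ := hC.exists_frame
  have hk : Nat.card (Kt H t) + 1 = 2 ^ n := by
    rw [fr.card_K, Nat.sub_add_cancel Nat.card_pos, GaloisField.card _ _ (by omega)]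
  by_cases hab : IsMulCommutative H
  · left
    obtain ⟨m, -, h1, h2, -⟩ := hC.main fun x hx j hj =>
      congrArg Subtype.val (hab.is_comm.comm ⟨x, hx⟩ ⟨_, hC.K_conj_mem hj hx⟩)
    have := ((Nat.bijective_iff_injective_and_card fun c => (⟨a c, fr.a_mem c⟩ : H)).2
      ⟨fun c d e => fr.a_inj (congrArg Subtype.val e), by
        rw [GaloisField.card _ _ (by omega), ← hk, h2, h1,
          Nat.sub_add_cancel Nat.one_le_two_pow]⟩).2
    intro x hx
    obtain ⟨c, hc⟩ := this ⟨x, hx⟩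
    exact (show a c = x from congrArg Subtype.val hc) ▸ fr.a_sq c
  have h2 := hC.isPGroup_of_not_ab fun e => hab
    (le_centralizer_iff_isMulCommutative.1 (commutator_eq_bot_iff_le_centralizer.1 e))
  obtain ⟨l, l0, l1⟩ := fr.exists_ne hC
  obtain ⟨h3, -, -, h4⟩ := higman G H (Kt H t) h2 (by
      let f : (GaloisField 2 n)ˣ →* Kt H t := MonoidHom.mk' (fun c => ⟨k c, fr.k_mem _⟩)
        fun c d => Subtype.ext (fr.k_mul hC c.ne_zero d.ne_zero)
      refine isCyclic_of_surjective f fun j => ?_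
      obtain ⟨c, hc, e⟩ := fr.k_surj j j.2
      exact ⟨Units.mk0 c hc, Subtype.ext e⟩) (fun _ h => h.1) hab
    ⟨_, fr.a_mem l, _, fr.a_mem 1, fun e => l1 (fr.a_inj e), fr.a_ne_one l0, fr.a_sq _,
      fr.a_ne_one one_ne_zero, fr.a_sq _⟩
    fun x hx y hy x1 x2 y1 y2 => hC.exists_K_conj hx x1 x2 hy y1 y2
  have h5 : Nat.card ↥⁅H, H⁆ = 2 ^ n := by
    rw [← GaloisField.card 2 n (by omega)]
    exact (Nat.card_eq_of_bijective (fun c => (⟨a c, (h3 _).2 ⟨fr.a_mem c, fr.a_sq c⟩⟩ : ↥⁅H, H⁆))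
      ⟨fun c d e => fr.a_inj (congrArg Subtype.val e), fun y => by
        obtain ⟨c, hc⟩ := fr.a_surj y ((h3 _).1 y.2).1 ((h3 _).1 y.2).2
        exact ⟨c, Subtype.ext hc⟩⟩).symm
  rw [h5] at h4
  exact Or.inr ⟨h2, hk ▸ h4.resolve_right (hC.not_cube hn hk h5)⟩

theorem zt : ZT.{u} := zt_of_zt1 zt1

end Cfsg.Agent.R1
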