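import Cfsg.Agent.Lib.R1.ZBase
import Cfsg.Agent.Lib.Blk.Frob

/-!
# The Brauer-Suzuki theorem for `Q₈`: the principal block of the involution centralizer
-/

set_option autoImplicit false

namespace Cfsg.Agent.R1

open Subgroup Cfsg.Agent.OO Cfsg.Agent.Blk
open scoped ComplexConjugate

universe u

variable {G : Type u} [Group G] [Finite G] {H K : Subgroup G} {φ ψ χ η ξ : G → ℂ} {g k s x z : G}
  {m : ℕ}

theorem exists_decomp {p : ℕ} (hp : p.Prime) (g : G) : ∃ u s : G, (∃ k, u ^ p ^ k = 1) ∧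
    ¬ p ∣ orderOf s ∧ Commute u s ∧ u ∈ zpowers g ∧ s ∈ zpowers g ∧ g = u * s := by
  obtain ⟨k, hk⟩ := (Coprime.isPiNum_singleton_iff hp (orderOf_pos _).ne').1 (piElt_constt {p} g)
  exact ⟨constt {p} g, constt {p}ᶜ g, ⟨k, hk ▸ pow_orderOf_eq_one _⟩,
    (isPiNum_compl_singleton hp).1 (piElt_constt _ g), commute_constt_constt _ _ g,
    constt_mem_zpowers _ g, constt_mem_zpowers _ g, (constt_mul_constt_compl _ g).symm⟩

theorem four_squares {ι : Type*} {S : Finset ι} (hS : S.card = 4) {n : ι → ℤ}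
    (h1 : ∑ i ∈ S, n i ^ 2 = 16) (h2 : ∑ i ∈ S, n i = 0) : ∀ i ∈ S, n i = 2 ∨ n i = -2 := by
  classical
  obtain ⟨a, b, c, d, h3, h4, h5, h6, h7, h8, rfl⟩ := Finset.card_eq_four.1 hS
  rw [Finset.sum_insert (by simp [*]), Finset.sum_insert (by simp [*]), Finset.sum_pair h8] at h1 h2
  have key : ∀ a b c d : ℤ, a ^ 2 + (b ^ 2 + (c ^ 2 + d ^ 2)) = 16 → a + (b + (c + d)) = 0 →
      (a = 2 ∨ a = -2) ∧ (b = 2 ∨ b = -2) ∧ (c = 2 ∨ c = -2) ∧ (d = 2 ∨ d = -2) := by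
    intro a b c d h1 h2
    obtain rfl : d = -a - b - c := by omega
    have ha : -4 ≤ a ∧ a ≤ 4 := by constructor <;> nlinarith [sq_nonneg b, sq_nonneg c, sq_nonneg (-a - b - c)]
    have hb : -4 ≤ b ∧ b ≤ 4 := by constructor <;> nlinarith [sq_nonneg a, sq_nonneg c, sq_nonneg (-a - b - c)]
    have hc : -4 ≤ c ∧ c ≤ 4 := by constructor <;> nlinarith [sq_nonneg a, sq_nonneg b, sq_nonneg (-a - b - c)]
    obtain ⟨ha1, ha2⟩ := ha
    obtain ⟨hb1, hb2⟩ := hb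
    obtain ⟨hc1, hc2⟩ := hc
    interval_cases a <;> interval_cases b <;> interval_cases c <;> simp at h1 ⊢
  obtain ⟨h9, h10, h11, h12⟩ := key _ _ _ _ h1 h2
  simp [*]

/-- translation by `z` -/
def tr (z : G) : (G → ℂ) →ₗ[ℂ] (G → ℂ) where
  toFun φ := fun y => φ (z * y)
  map_add' _ _ := rfl
  map_smul' _ _ := rfl

omit [Finite G] in
@[simp] theorem tr_apply (φ : G → ℂ) (y : G) : tr z φ y = φ (z * y) := rfl

/-- the centralizer `H` of the involution `z = x²` in a group with Sylow 2-subgroup `Q₈` -/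
structure Q8H (x z : G) (H K : Subgroup G) (m : ℕ) : Prop where
  ord : orderOf x = 4
  sq : x * x = z
  defH : H = 𝐂[z]
  inv : ∀ s ∈ H, s * s = 1 → s = 1 ∨ s = z
  fus : ∀ u ∈ H, (∃ k, u ^ 2 ^ k = 1) → u * u = 1 ∨ ∃ g ∈ H, u = g * x * g⁻¹
  card : ♯H = 2 ^ 3 * m
  odd : ¬ 2 ∣ m
  normal : K ⊴ 𝐂[x]
  cardK : ♯𝐂[x] = 4 * ♯K
  oddK : ¬ 2 ∣ ♯K
  reg : ∀ g, g ∈ Reg 2 𝐂[x] ↔ g ∈ K

namespace Q8H

variable (h : Q8H x z H K m)
include h

omit [Finite G] in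
theorem zz : z * z = 1 := h.sq ▸ sq_mul_sq_of_order_four h.ord
omit [Finite G] in
theorem z_ne : z ≠ 1 := h.sq ▸ sq_ne_one_of_order_four h.ord
omit [Finite G] in
theorem comm (hg : g ∈ H) : g * z = z * g := mem_cent1.1 (h.defH ▸ hg)
omit [Finite G] in
theorem z_mem : z ∈ H := h.defH ▸ mem_cent1_self z
omit [Finite G] in
theorem C_le : 𝐂[x] ≤ H := fun g hg => h.defH ▸ mem_cent1.2 (by
  rw [← h.sq]; exact ((show Commute g x from mem_cent1.1 hg).mul_right (mem_cent1.1 hg)).eq)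
omit [Finite G] in
theorem x_mem : x ∈ H := h.C_le (mem_cent1_self x)
omit [Finite G] in
theorem x4 : x ^ 2 ^ 2 = 1 := orderOf_dvd_iff_pow_eq_one.1 h.ord.dvd
omit [Finite G] in
theorem zzg (g : G) : z * (z * g) = g := by rw [← mul_assoc, h.zz, one_mul]

theorem tri (hg : g ∈ H) :
    g ∈ Reg 2 H ∨ z * g ∈ Reg 2 H ∨ ∃ k ∈ H, ∃ s ∈ K, g = k * (x * s) * k⁻¹ := by
  obtain ⟨u, s, hu, hs, hc, huH, hsH, rfl⟩ := exists_decomp Nat.prime_two g
  replace huH := zpowers_le.2 hg huH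
  replace hsH := zpowers_le.2 hg hsH
  rcases h.fus u huH hu with h1 | ⟨k, hk, rfl⟩
  · rcases h.inv u huH h1 with rfl | rfl
    · exact Or.inl (by rw [one_mul]; exact ⟨hsH, hs⟩)
    · exact Or.inr (Or.inl (by rw [h.zzg]; exact ⟨hsH, hs⟩))
  · refine Or.inr (Or.inr ⟨k, hk, k⁻¹ * s * k, (h.reg _).1 ⟨mem_cent1.2 ?_, ?_⟩, by group⟩)
    · calc _ = k⁻¹ * (s * (k * x * k⁻¹)) * k := by group
        _ = _ := by rw [← hc.eq]; group
    · rwa [← orderOf_conj k, show k * (k⁻¹ * s * k) * k⁻¹ = s by group]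

omit [Finite G] in
theorem not_reg (hs : s ∈ Reg 2 H) : z * s ∉ Reg 2 H := fun h1 => by
  have h2 : Commute (z * s) s⁻¹ := (Commute.mul_left (h.comm hs.1).symm rfl).inv_right
  have h3 := h2.orderOf_mul_dvd_mul_orderOf
  rw [mul_inv_cancel_right, orderOf_eq_prime (p := 2) (by rw [pow_two, h.zz]) h.z_ne, orderOf_inv] at h3
  exact (Nat.prime_two.dvd_mul.1 h3).elim h1.2 hs.2

omit [Finite G] in
theorem not_reg_x (hk : k ∈ H) (hs : s ∈ K) :
    k * (x * s) * k⁻¹ ∉ Reg 2 H ∧ z * (k * (x * s) * k⁻¹) ∉ Reg 2 H := by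
  have h0 : ∀ g ∈ Reg 2 H, g * g ∈ Reg 2 H := fun g hg => ⟨mul_mem hg.1 hg.1, fun h' =>
    hg.2 (h'.trans (pow_two g ▸ orderOf_pow_dvd 2))⟩
  have hs' := (h.reg _).2 (K.mul_mem hs hs)
  have h1 : k * (x * s) * k⁻¹ * (k * (x * s) * k⁻¹) ∉ Reg 2 H := by
    rw [conj_mul, conj_mem_Reg hk, mul_assoc, ← mul_assoc s, mem_cent1.1 (h.normal.1 hs), mul_assoc,
      ← mul_assoc, h.sq]
    exact h.not_reg ⟨h.C_le hs'.1, hs'.2⟩
  refine ⟨fun e => h1 (h0 _ e), fun e => h1 ?_⟩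
  have := h0 _ e
  rwa [mul_assoc z, ← mul_assoc _ z, h.comm ((H.mul_mem_cancel_left h.z_mem).1 e.1), mul_assoc z,
    h.zzg] at this

theorem prB_x (hk : k ∈ H) (hs : s ∈ K) (φ : G → ℂ) :
    prB 2 H φ (k * (x * s) * k⁻¹) = prB 2 H φ x := by
  have := prB_mul_eq h.x_mem h.x4 one_mem_Reg ((inf_eq_right.2 h.C_le).symm ▸ h.normal) h.oddK hs φ
  rw [cfunJ (prB_mem_CF φ) hk, ← mul_one s, this, mul_one]

theorem sign (hχ : IsIrr H χ) : tr z χ = χ ∨ tr z χ = -χ := by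
  obtain ⟨c, hc⟩ := hχ.exists_scalar h.z_mem fun y hy => by rw [← h.comm hy]; simp [one_mem]
  have h1 := hc (z * 1)
  rw [h.zzg, hc, ← mul_assoc, eq_comm, mul_eq_right₀ (irr1_neq0 hχ), mul_self_eq_one_iff] at h1
  rcases h1 with rfl | rfl
  · exact Or.inl (funext fun y => by simp [hc])
  · exact Or.inr (funext fun y => by simp [hc])

theorem apply_inv (hφ : φ ∈ CF H) : φ x⁻¹ = φ x := by
  rcases h.fus x⁻¹ (inv_mem h.x_mem) ⟨2, by rw [inv_pow, h.x4, inv_one]⟩ with h1 | ⟨g, hg, e⟩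
  · exact absurd (by rwa [← mul_inv_rev, inv_eq_one] at h1) (sq_ne_one_of_order_four h.ord)
  · rw [e, cfunJ hφ hg]

theorem apply_x_eq_zero (hφ : φ ∈ CF H) (e : tr z φ = -φ) : φ x = 0 := by
  have h1 := congrFun e x
  rw [tr_apply, show z * x = x⁻¹ from eq_inv_of_mul_eq_one_left (by
    rw [← h.sq, mul_assoc, sq_mul_sq_of_order_four h.ord]), h.apply_inv hφ] at h1
  exact self_eq_neg.1 h1

theorem cint_x (hφ : φ ∈ ZIrr H) : IsCint (φ x) := Cint_vchar_of_pow hφ fun k hk => by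
  rcases eq_or_eq_inv_of_order_four h.ord (npow_mem_zpowers x k) (sq_ne_one_of_order_four (by
    rw [hk.symm.orderOf_pow, h.ord])) with e | e
  · rw [e]
  · rw [e, h.apply_inv (vchar_mem_CF hφ)]

theorem tr_mem (hφ : φ ∈ CF H) : tr z φ ∈ CF H :=
  ⟨fun y hy => cfun0 hφ fun e => hy ((H.mul_mem_cancel_left h.z_mem).1 e), fun k hk y => by
    rw [tr_apply, tr_apply, ← cfunJ hφ hk (z * y), ← mul_assoc, ← mul_assoc, ← h.comm hk,
      mul_assoc k]⟩

omit [Finite G] in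
theorem tr_tr (φ : G → ℂ) : tr z (tr z φ) = φ := funext fun y => by simp [h.zzg]

theorem cfdot_tr (φ ψ : G → ℂ) : ⟪tr z φ, ψ⟫[H] = ⟪φ, tr z ψ⟫[H] := by
  rw [cfdotE, cfdotE, ← sum_elts_mul_left h.z_mem]
  simp [h.zzg]

theorem prB_tr (φ : G → ℂ) : prB 2 H (tr z φ) = tr z (prB 2 H φ) :=
  funext (prB_translate h.z_mem h.defH.le φ)

theorem cfdot_reg_tr (φ ψ : G → ℂ) : ⟪regInd 2 H * φ, tr z (regInd 2 H * ψ)⟫[H] = 0 :=
  cfdot_eq_zero_of_forall fun y _ => by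
    by_cases hy : y ∈ Reg 2 H
    · simp [regInd_of_not_mem (h.not_reg hy)]
    · simp [regInd_of_not_mem hy]

theorem tr_cf1 : tr z (cf1 H) = cf1 H := (h.sign (isIrr_cf1 H)).resolve_right fun e =>
  one_ne_zero ((cf1E h.x_mem).symm.trans (h.apply_x_eq_zero (cf1_mem_CF H) e))

omit h in
/-- the characteristic function of the elements of order divisible by four -/
noncomputable def del (z : G) (H : Subgroup G) : G → ℂ := cf1 H - regInd 2 H - tr z (regInd 2 H)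

theorem del_mem : del z H ∈ CF H :=
  sub_mem (sub_mem (cf1_mem_CF H) regInd_mem_CF) (h.tr_mem regInd_mem_CF)
theorem del_reg (hs : s ∈ Reg 2 H) : del z H s = 0 := by
  simp [del, cf1E hs.1, regInd_of_mem hs, regInd_of_not_mem (h.not_reg hs)]
theorem tr_del : tr z (del z H) = del z H := by
  rw [del, map_sub, map_sub, h.tr_tr, h.tr_cf1]
  abel
theorem del_zreg (hs : z * s ∈ Reg 2 H) : del z H s = 0 := by
  rw [← h.tr_del, tr_apply, h.del_reg hs]
theorem del_x (hk : k ∈ H) (hs : s ∈ K) : del z H (k * (x * s) * k⁻¹) = 1 := by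
  simp only [del, Pi.sub_apply, tr_apply, regInd_of_not_mem (h.not_reg_x hk hs).1,
    regInd_of_not_mem (h.not_reg_x hk hs).2, sub_zero]
  exact cf1E (mul_mem (mul_mem hk (mul_mem h.x_mem (h.C_le (h.normal.1 hs)))) (inv_mem hk))
theorem del_x' : del z H x = 1 := by simpa using h.del_x H.one_mem K.one_mem

theorem cfdot_del_one : ⟪del z H, cf1 H⟫[H] = 1 / 4 := by
  have hxC := mem_cent1_self x
  have h1 : tr x⁻¹ (cf1 K) ∈ CF 𝐂[x] := ⟨fun y hy => cf1_of_not_mem fun e => hy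
    (((𝐂[x]).mul_mem_cancel_left (inv_mem hxC)).1 (h.normal.1 e)), fun k hk y => by
      rw [tr_apply, tr_apply, ← cfunJ (cf1_mem_CF_of_normal h.normal) hk (x⁻¹ * y), ← mul_assoc,
        ← mul_assoc, ← (show Commute k x from mem_cent1.1 hk).inv_right.eq, mul_assoc k]⟩
  have h2 : ∀ g k, k ∈ H → tr x⁻¹ (cf1 K) (k⁻¹ * g * k) ≠ 0 →
      ∃ s ∈ K, g = k * (x * s) * k⁻¹ := fun g k _ e =>
    ⟨_, by_contra fun h' => e (cf1_of_not_mem h'), by group⟩
  have h3 : del z H = cfInd H 𝐂[x] (tr x⁻¹ (cf1 K)) := by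
    refine cfun_ext h.del_mem (cfInd_mem_CF _ _ _) fun g hg => ?_
    rcases h.tri hg with h3 | h3 | ⟨k, hk, s, hs, rfl⟩
    · rw [h.del_reg h3, cfInd_eq_zero _ fun k hk => by_contra fun e => ?_]
      obtain ⟨s, hs, rfl⟩ := h2 g k hk e
      exact (h.not_reg_x hk hs).1 h3
    · rw [h.del_zreg h3, cfInd_eq_zero _ fun k hk => by_contra fun e => ?_]
      obtain ⟨s, hs, rfl⟩ := h2 g k hk e
      exact (h.not_reg_x hk hs).2 h3
    · rw [h.del_x hk hs, cfunJ (cfInd_mem_CF _ _ _) hk, cfInd_eq_self h.C_le h1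
        (mul_mem h.x_mem (h.C_le (h.normal.1 hs))) fun k hk hk' => by_contra fun e => hk' ?_,
        tr_apply, inv_mul_cancel_left, cf1E hs]
      obtain ⟨s', hs', e⟩ := h2 _ k hk e
      have h4 : ∀ t ∈ K, (x * t) ^ (♯K * ♯K) = x := fun t ht => by
        obtain ⟨j, hj⟩ : ∃ j, ♯K * ♯K = 4 * j + 1 := by
          obtain ⟨i, hi⟩ : ∃ i, ♯K = 2 * i + 1 := ⟨♯K / 2, by have := h.oddK; omega⟩
          exact ⟨i * i + i, by rw [hi]; ring⟩
        rw [(show Commute t x from mem_cent1.1 (h.normal.1 ht)).symm.mul_pow, pow_mul t,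
          orderOf_dvd_iff_pow_eq_one.1 (Subgroup.orderOf_dvd_natCard K ht), one_pow, mul_one, hj,
          pow_succ, pow_mul, show x ^ 4 = 1 from h.x4, one_pow, one_mul]
      have h5 := h4 s hs
      rw [e, conj_pow, h4 s' hs'] at h5
      exact mem_cent1_iff_conj.2 h5
  rw [h3, cfdot_cfInd_left h.C_le h1.1 (cf1_mem_CF H), ← cfdot_cfRes_right, cfRes_cf1 h.C_le,
    cfdot_cf1r, ← sum_elts_mul_left hxC]
  simp only [tr_apply, inv_mul_cancel_left]
  rw [← sum_elts_subset h.normal.1 fun y _ hy => cf1_of_not_mem hy,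
    Finset.sum_congr rfl fun y hy => cf1E (mem_elts.1 hy), sum_elts_const, nsmul_one, h.cardK]
  have := cardC_ne_zero K
  push_cast
  field_simp

theorem eq_smul_del (hφ : prB 2 H φ = φ) (h1 : ∀ s ∈ Reg 2 H, φ s = 0)
    (h2 : ∀ s ∈ Reg 2 H, φ (z * s) = 0) : φ = φ x • del z H := by
  refine cfun_ext (hφ ▸ prB_mem_CF φ) (Submodule.smul_mem _ _ h.del_mem) fun g hg => ?_
  rcases h.tri hg with h3 | h3 | ⟨k, hk, s, hs, rfl⟩
  · simp [h1 g h3, h.del_reg h3]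
  · rw [← h.zzg g, h2 _ h3, h.zzg]; simp [h.del_zreg h3]
  · rw [Pi.smul_apply, h.del_x hk hs, ← hφ, h.prB_x hk hs, smul_eq_mul, mul_one]

theorem prB_del : prB 2 H (del z H) = del z H := by
  have h1 := h.eq_smul_del (prB_prB (del z H))
    (fun s hs => prB_eq_zero_of_reg (fun _ => h.del_reg) hs) fun s hs => by
      rw [← tr_apply (prB 2 H (del z H)), ← h.prB_tr, h.tr_del]; exact prB_eq_zero_of_reg (fun _ => h.del_reg) hs
  have h2 := cfdot_prB_of_mem (del z H) (cf1_mem_B0 (p := 2) (H := H))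
  rw [h1, cfdotZl, mul_eq_right₀ (by rw [h.cfdot_del_one]; norm_num)] at h2
  rw [h1, h2, one_smul]

theorem cfdot_del (hφ : prB 2 H φ = φ) : ⟪φ, del z H⟫[H] = φ x / 4 := by
  rw [div_eq_mul_one_div, ← h.cfdot_del_one, ← cfdotZl, cfdotE, cfdotE]
  refine congrArg _ (Finset.sum_congr rfl fun g hg => ?_)
  rcases h.tri (mem_elts.1 hg) with h3 | h3 | ⟨k, hk, s, hs, rfl⟩
  · simp [h.del_reg h3]
  · simp [h.del_zreg h3]
  · rw [Pi.smul_apply, h.del_x hk hs, cf1E (mem_elts.1 hg), ← hφ, h.prB_x hk hs]; simp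

theorem decomp (hφ : φ ∈ CF H) :
    φ = regInd 2 H * φ + tr z (regInd 2 H * tr z φ) + del z H * φ := by
  ext y
  simp only [del, Pi.add_apply, Pi.mul_apply, Pi.sub_apply, tr_apply, h.zzg]
  have := congrFun (cf1_mul hφ) y
  rw [Pi.mul_apply] at this
  linear_combination -this

open Classical in
omit h in
/-- characters of the principal block with `z` in the kernel -/
noncomputable def Bp (z : G) (H : Subgroup G) : Finset (G → ℂ) :=
  (B0 2 H).filter fun χ => tr z χ = χ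

omit h in
theorem mem_Bp : χ ∈ Bp z H ↔ χ ∈ B0 2 H ∧ tr z χ = χ := by simp [Bp]

theorem one_mem_Bp : cf1 H ∈ Bp z H := mem_Bp.2 ⟨cf1_mem_B0, h.tr_cf1⟩

theorem tr_eq_neg (hχ : χ ∈ B0 2 H) (h1 : χ ∉ Bp z H) : tr z χ = -χ :=
  (h.sign (isIrr_of_mem_B0 hχ)).resolve_left fun e => h1 (mem_Bp.2 ⟨hχ, e⟩)

theorem apply_x_ne_zero (hη : η ∈ Bp z H) : η x ≠ 0 := fun h0 => by
  obtain ⟨h1, h2⟩ := mem_Bp.1 hη
  have h3 : ⟪η, cf1 H⟫[H] = 2 * ⟪η, regInd 2 H⟫[H] := by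
    have h4 := h.cfdot_del (prB_of_mem h1)
    rw [h0, del, cfdotBr, cfdotBr, ← h.cfdot_tr, h2] at h4
    linear_combination h4
  have h4 : ⟪η, regInd 2 H⟫[H] ≠ 0 := by
    rw [cfdotC, map_ne_zero, cfdotE, sum_regInd_mul, ← map_sum]
    exact mul_ne_zero (inv_ne_zero (cardC_ne_zero H)) ((map_ne_zero _).2 (mem_B0.1 h1).2)
  rw [(isIrr_of_mem_B0 h1).eq_of_cfdot_ne_zero (isIrr_cf1 H) (h3 ▸ mul_ne_zero two_ne_zero h4),
    cf1E h.x_mem] at h0
  exact one_ne_zero h0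

omit h in
theorem eq_sum_Bp (h : Q8H x z H K m) (hφ : prB 2 H φ = φ) (h1 : tr z φ = φ) :
    φ = ∑ η ∈ Bp z H, ⟪φ, η⟫[H] • η := by
  nth_rw 1 [← hφ]
  rw [prB_eq, eq_comm]
  refine Finset.sum_subset (fun _ hη => (mem_Bp.1 hη).1) fun χ hχ hχ' => ?_
  have := h.cfdot_tr φ χ
  rw [h1, h.tr_eq_neg hχ hχ', cfdotNr, self_eq_neg] at this
  rw [this, zero_smul]

theorem sum_sq : ∑ η ∈ Bp z H, ‖η x‖ ^ 2 = 4 := by
  have h1 := congrFun (h.eq_sum_Bp h.prB_del h.tr_del) x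
  rw [h.del_x', Finset.sum_apply, Finset.sum_congr rfl fun η hη => by
    rw [Pi.smul_apply, cfdotC, h.cfdot_del (prB_of_mem (mem_Bp.1 hη).1), smul_eq_mul, map_div₀,
      div_mul_eq_mul_div, Complex.conj_mul'], ← Finset.sum_div, eq_div_iff (by simp)] at h1
  have h2 : conj (4 : ℂ) = 4 := Complex.conj_ofNat 4
  rw [h2, one_mul] at h1
  exact_mod_cast h1.symm

theorem apply_x (hη : η ∈ Bp z H) : η x = 1 ∨ η x = -1 := by
  classical
  by_cases e : η = cf1 H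
  · exact Or.inl (e ▸ cf1E h.x_mem)
  refine (h.cint_x (irr_vchar (isIrr_of_mem_B0 (mem_Bp.1 hη).1))).eq_one_or_neg_one
    (h.apply_x_ne_zero hη) ?_
  have := Finset.sum_le_sum_of_subset_of_nonneg (s := {η, cf1 H}) (t := Bp z H)
    (f := fun η => ‖η x‖ ^ 2)
    (by simp [Finset.insert_subset_iff, hη, h.one_mem_Bp]) fun _ _ _ => by positivity
  rw [h.sum_sq, Finset.sum_pair e, cf1E h.x_mem] at this
  simp only [norm_one] at this
  linarith

theorem card_Bp : (Bp z H).card = 4 := by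
  have := h.sum_sq
  rw [Finset.sum_congr rfl fun η hη => show ‖η x‖ ^ 2 = 1 by
    rcases h.apply_x hη with e | e <;> simp [e]] at this
  exact_mod_cast (by simpa using this : ((Bp z H).card : ℝ) = 4)

theorem eq_sub_tr (hφ : prB 2 H φ = φ) (e : tr z φ = -φ) :
    φ = regInd 2 H * φ - tr z (regInd 2 H * φ) := by
  have hφ' : φ ∈ CF H := hφ ▸ prB_mem_CF φ
  have h1 : del z H * φ = 0 := cfun_ext (mul_mem_CF h.del_mem hφ') (zero_mem _) fun g hg => by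
    rcases h.tri hg with h3 | h3 | ⟨k, hk, s, hs, rfl⟩
    · simp [h.del_reg h3]
    · simp [h.del_zreg h3]
    · rw [Pi.mul_apply, ← hφ, h.prB_x hk hs, hφ, h.apply_x_eq_zero hφ' e]; simp
  nth_rw 1 [h.decomp hφ']
  rw [h1, e, mul_neg, map_neg, add_zero, sub_eq_add_neg]

theorem cfdot_reg_self (hξ : ξ ∈ B0 2 H) (e : tr z ξ = -ξ) :
    ⟪regInd 2 H * ξ, regInd 2 H * ξ⟫[H] = 1 / 2 := by
  have h1 := cfdot_irr_self (isIrr_of_mem_B0 hξ)
  rw [h.eq_sub_tr (prB_of_mem hξ) e, cfdotBl, cfdotBr, cfdotBr, h.cfdot_reg_tr,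
    cfdot_symm0 (h.cfdot_reg_tr ξ ξ), h.cfdot_tr, h.tr_tr] at h1
  linear_combination h1 / 2

theorem cfdot_reg_Bp (hξ : ξ ∈ B0 2 H) (e : tr z ξ = -ξ) (hη : η ∈ Bp z H) :
    ⟪regInd 2 H * ξ, η⟫[H] = 1 / 4 ∨ ⟪regInd 2 H * ξ, η⟫[H] = -(1 / 4) := by
  have h1 : ∀ η ∈ Bp z H, ∃ n : ℤ, 8 * ⟪regInd 2 H * ξ, η⟫[H] * η x = n := fun η hη => by
    have hη' := isIrr_of_mem_B0 (mem_Bp.1 hη).1
    refine IsCint.mul ?_ (h.cint_x (irr_vchar hη'))
    convert isCint_sum_Reg_div Nat.prime_two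
      (mul_vchar (irr_vchar (isIrr_of_mem_B0 hξ)) (irr_vchar hη'.star)) h.card h.odd using 1
    rw [cfdotE, ← sum_regInd_mul, h.card]
    have : (m : ℂ) ≠ 0 := by exact_mod_cast fun e : m = 0 => h.odd (e ▸ dvd_zero 2)
    simp only [Pi.mul_apply, Pi.star_apply, Complex.star_def, mul_assoc]
    push_cast
    field_simp
  choose! n hn using h1
  set ρ := regInd 2 H * ξ + tr z (regInd 2 H * ξ) with hρ
  have h2 : prB 2 H ρ = ρ := by rw [hρ, map_add, h.prB_tr, prB_regInd_mul, prB_of_mem hξ]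
  have h3 := h.eq_sum_Bp h2 (by rw [hρ, map_add, h.tr_tr, add_comm])
  have h4 : ∀ η ∈ Bp z H, ⟪ρ, η⟫[H] = n η * η x / 4 := fun η hη => by
    rw [hρ, cfdotDl, h.cfdot_tr, (mem_Bp.1 hη).2, ← hn η hη]
    rcases h.apply_x hη with e | e <;> rw [e] <;> ring
  have h5 : ∑ η ∈ Bp z H, n η = 0 := by
    have h6 := congrFun h3 x
    rw [Finset.sum_apply, Finset.sum_congr rfl fun η hη => show _ = (n η : ℂ) / 4 by
      rw [Pi.smul_apply, h4 η hη]; rcases h.apply_x hη with e | e <;> simp [e, neg_div],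
      ← Finset.sum_div, hρ] at h6
    have h7 := h.not_reg_x H.one_mem K.one_mem
    simp only [mul_one, one_mul, inv_one] at h7
    simp only [Pi.add_apply, Pi.mul_apply, tr_apply, regInd_of_not_mem h7.1, regInd_of_not_mem h7.2,
      zero_mul, add_zero] at h6
    exact_mod_cast (div_eq_zero_iff.1 h6.symm).resolve_right (by norm_num)
  have h6 : ∑ η ∈ Bp z H, n η ^ 2 = 16 := by
    have h7 : ⟪ρ, ρ⟫[H] = 1 := by
      rw [hρ, cfdotDl, cfdotDr, cfdotDr, h.cfdot_reg_tr, cfdot_symm0 (h.cfdot_reg_tr ξ ξ),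
        h.cfdot_tr, h.tr_tr, h.cfdot_reg_self hξ e]; norm_num
    nth_rw 1 [h3] at h7
    rw [cfdot_suml, Finset.sum_congr rfl fun η hη => show _ = (n η : ℂ) ^ 2 / 16 by
      rw [cfdotZl, cfdotC η, h4 η hη]
      rcases h.apply_x hη with e | e <;> simp [e, Complex.conj_ofNat] <;> ring, ← Finset.sum_div,
      div_eq_one_iff_eq (by norm_num)] at h7
    exact_mod_cast h7
  have h7 := hn η hη
  rcases four_squares h.card_Bp h6 h5 η hη with e1 | e1 <;> rcases h.apply_x hη with e2 | e2 <;>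
    rw [e1, e2] at h7 <;> push_cast at h7
  · exact Or.inl (by linear_combination h7 / 8)
  · exact Or.inr (by linear_combination -h7 / 8)
  · exact Or.inr (by linear_combination h7 / 8)
  · exact Or.inl (by linear_combination -h7 / 8)

/-- the virtual character of norm three attached to a faithful character of the principal block -/
theorem exists_alpha (hξ : ξ ∈ B0 2 H) (e : tr z ξ = -ξ) : ∃ τ : ℂ, (τ = 1 ∨ τ = -1) ∧
    (2 * τ) • tr z (regInd 2 H * ξ) + (2 : ℂ) • del z H ∈ ZIrr H ∧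
    ⟪(2 * τ) • tr z (regInd 2 H * ξ) + (2 : ℂ) • del z H, cf1 H⟫[H] = 1 := by
  have h1 : ∃ τ : ℂ, (τ = 1 ∨ τ = -1) ∧ τ * ⟪regInd 2 H * ξ, cf1 H⟫[H] = 1 / 4 := by
    rcases h.cfdot_reg_Bp hξ e h.one_mem_Bp with h1 | h1
    · exact ⟨1, Or.inl rfl, by rw [h1]; ring⟩
    · exact ⟨-1, Or.inr rfl, by rw [h1]; ring⟩
  obtain ⟨τ, hτ, h1⟩ := h1
  have hξ' := isIrr_of_mem_B0 hξ
  refine ⟨τ, hτ, vchar_of_cfdot (add_mem (Submodule.smul_mem _ _ (h.tr_mem (mul_mem_CF regInd_mem_CF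
    hξ'.mem_CF))) (Submodule.smul_mem _ _ h.del_mem)) fun χ hχ => ?_, ?_⟩
  · rw [cfdotDl, cfdotZl, cfdotZl]
    by_cases h2 : χ ∈ B0 2 H
    swap
    · rw [← h.prB_del, ← prB_of_mem hξ, ← prB_regInd_mul, ← h.prB_tr, cfdot_prB_of_not_mem _ hχ h2,
        cfdot_prB_of_not_mem _ hχ h2]
      simpa using isCint_zero
    rw [cfdotC (del z H), h.cfdot_del (prB_of_mem h2), h.cfdot_tr]
    by_cases h3 : χ ∈ Bp z H
    · rw [(mem_Bp.1 h3).2]
      rcases hτ with rfl | rfl <;> rcases h.cfdot_reg_Bp hξ e h3 with e1 | e1 <;>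
        rcases h.apply_x h3 with e2 | e2 <;> rw [e1, e2] <;> norm_num [Complex.conj_ofNat] <;>
        first | exact isCint_one | exact isCint_zero | exact isCint_one.neg
    · have h4 := h.tr_eq_neg h2 h3
      have h5 := Cint_cfdot_vchar_irr (irr_vchar hξ') hχ
      rw [h.eq_sub_tr (prB_of_mem hξ) e, cfdotBl, h.cfdot_tr, h4, cfdotNr] at h5
      rw [h4, cfdotNr, h.apply_x_eq_zero hχ.mem_CF h4]
      rcases hτ with rfl | rfl
      · convert h5.neg using 1; simp; ring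
      · convert h5 using 1; simp; ring
  · rw [cfdotDl, cfdotZl, cfdotZl, h.cfdot_tr, (mem_Bp.1 h.one_mem_Bp).2, h.cfdot_del_one]
    linear_combination 2 * h1

theorem exists_faithful : ∃ ξ ∈ B0 2 H, tr z ξ = -ξ := by
  by_contra h1
  push Not at h1
  have h2 : prB 2 H (regInd 2 H) = regInd 2 H := by
    have := prB_regInd_mul (p := 2) (cf1 H) (H := H)
    rwa [prB_of_mem cf1_mem_B0, mul_cf1 regInd_mem_CF] at this
  have h3 : tr z (regInd 2 H) = regInd 2 H := by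
    rw [← h2, prB_eq, map_sum]
    exact Finset.sum_congr rfl fun χ hχ => by
      rw [map_smul, (h.sign (isIrr_of_mem_B0 hχ)).resolve_right (h1 χ hχ)]
  have := congrFun h3 1
  rw [tr_apply, regInd_of_mem one_mem_Reg, regInd_of_not_mem (h.not_reg one_mem_Reg)] at this
  exact zero_ne_one this

end Q8H

end Cfsg.Agent.R1
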