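import Cfsg.Agent.Lib.Blk.Main

/-!
# Common lemmas for the Brauer-Suzuki theorem
-/

set_option autoImplicit false

namespace Cfsg.Agent.R1

open Subgroup Cfsg.Agent.OO Cfsg.Agent.Blk
open scoped ComplexConjugate commutatorElement

universe u

variable {G : Type u} [Group G] [Finite G] {H C : Subgroup G} {θ b c : G → ℂ} {a g u x y z : G}
  {n m : ℕ}

theorem exists_dirr_of_norm_three (hθ : θ ∈ ZIrr H) (h3 : ⟪θ, θ⟫[H] = 3) (h1 : ⟪θ, cf1 H⟫[H] = 1) :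
    ∃ c b, IsDirr H c ∧ IsDirr H b ∧ ⟪c, cf1 H⟫[H] = 0 ∧ ⟪b, cf1 H⟫[H] = 0 ∧ ⟪c, b⟫[H] = 0 ∧
      θ = cf1 H + c + b := by
  classical
  have h2 : cfnorm H (θ - cf1 H) = 2 := cfnorm_eq_of_cfdot (by
    rw [cfdotBl, cfdotBr, cfdotBr, h3, h1, cfdotC (cf1 H) θ, h1, cfdot_cf1]; norm_num)
  obtain ⟨S, hS, hd, hc, e⟩ := vchar_small_norm (sub_mem hθ (cf1_vchar H)) (by rw [h2]; norm_num)
  rw [h2] at hc
  obtain ⟨c, b, hne, rfl⟩ := Finset.card_eq_two.1 (by exact_mod_cast hc)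
  rw [Finset.sum_pair hne] at e
  have hcb : ⟪c, b⟫[H] = 0 := hS.2 c (by simp) b (by simp) hne
  have h4 : ⟪c, cf1 H⟫[H] + ⟪b, cf1 H⟫[H] = 0 := by
    rw [← cfdotDl, ← e, cfdotBl, h1, cfdot_cf1, sub_self]
  have h5 : ⟪c, cf1 H⟫[H] = 0 := by
    by_contra h
    have h6 : ⟪cf1 H, b⟫[H] = 0 := by
      rcases (hd c (by simp)).eq_or_eq_neg (isIrr_cf1 H).isDirr h with h' | h'
      · rwa [h'] at hcb
      · rwa [h', cfdotNl, neg_eq_zero] at hcb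
    exact h (by rwa [cfdot_symm0 h6, add_zero] at h4)
  exact ⟨c, b, hd c (by simp), hd b (by simp), h5, by rwa [h5, zero_add] at h4, hcb, by
    rw [add_assoc, ← e, add_sub_cancel]⟩

theorem sum_conj_mul_dirr (hc : IsDirr H c) (hx : x ∈ H) (y : G) :
    c 1 * ∑ i ∈ elts (H : Set G), c (i * x * i⁻¹ * y) = ♯H * c x * c y := by
  rcases hc with hc | hc
  · exact sum_conj_mul hc hx y
  · simpa using sum_conj_mul hc hx y

/-- the final step of the Brauer-Suzuki argument -/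
theorem false_of_norm_three (hgen : normalClosure ({z} : Set G) = ⊤)
    (hodd : ∀ g : G, ¬ 2 ∣ orderOf (g * z * g⁻¹ * z)) (hc : IsDirr ⊤ c) (hb : IsDirr ⊤ b)
    (hc1 : ⟪c, cf1 ⊤⟫[⊤] = 0) (h0 : ∀ g : G, ¬ 2 ∣ orderOf g → 1 + c g + b g = 0)
    (hz : b z ^ 2 = (1 + c z) ^ 2) : False := by
  have h1 := sum_conj_mul_dirr hc (mem_top z) z
  have h2 := sum_conj_mul_dirr hb (mem_top z) z
  have h3 : ∑ i ∈ elts ((⊤ : Subgroup G) : Set G),
      (1 + c (i * z * i⁻¹ * z) + b (i * z * i⁻¹ * z)) = 0 :=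
    Finset.sum_eq_zero fun g _ => h0 _ (hodd g)
  rw [Finset.sum_add_distrib, Finset.sum_add_distrib, sum_elts_const, nsmul_one] at h3
  have h4 := h0 1 (by simp)
  have h5 : (♯(⊤ : Subgroup G) : ℂ) * (c z - c 1) ^ 2 = 0 := by
    have h6 : b 1 = -(1 + c 1) := by linear_combination h4
    rw [h6] at h2
    linear_combination (c 1 * (1 + c 1)) * h3 - (1 + c 1) * h1 + c 1 * h2 +
      (♯(⊤ : Subgroup G) : ℂ) * c 1 * hz
  have h6 : c z = c 1 := sub_eq_zero.1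
    (pow_eq_zero_iff two_ne_zero |>.1 ((mul_eq_zero.1 h5).resolve_left (cardC_ne_zero _)))
  obtain ⟨e, he, χ, hχ, rfl⟩ := hc.exists_sign
  have he0 : e ≠ 0 := by rcases he with rfl | rfl <;> simp
  have h7 : z ∈ cfker ⊤ χ := (cfkerEchar hχ.isChar).2 ⟨mem_top z, by simpa [he0] using h6⟩
  have := normalizer_eq_top_iff.1 (top_le_iff.1 (cfker_normal hχ.mem_CF).2)
  rw [hχ.le_cfker_iff.1 (hgen.ge.trans (normalClosure_le_normal (by simpa using h7))), cfdotZl, cfdot_cf1,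
    mul_one] at hc1
  exact he0 hc1

theorem exists_cyclic_compl (ha : a ∈ C) (ho : orderOf a = 2 ^ (n + 1))
    (hC : ♯C = 2 ^ (n + 1) * m) (hm : ¬ 2 ∣ m) :
    ∃ K, K ⊴ C ∧ ♯K = m ∧ der C ≤ K ∧ ∀ g, g ∈ Reg 2 C ↔ g ∈ K := by
  have hm0 : m ≠ 0 := fun h => hm (h ▸ dvd_zero 2)
  have h1 : Nat.card (zpowers (⟨a, ha⟩ : C)) = 2 ^ (n + 1) := by
    rw [Nat.card_zpowers, ← ho, ← orderOf_coe]
  let P : Sylow 2 C := Sylow.ofCard (zpowers ⟨a, ha⟩) (by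
    rw [h1, hC, Nat.factorization_mul (by simp) hm0, Nat.prime_two.factorization_pow]
    simp [Nat.factorization_eq_zero_of_not_dvd hm])
  have hP : IsCyclic P := inferInstanceAs (IsCyclic (zpowers (⟨a, ha⟩ : C)))
  have hp : (♯C).minFac = 2 := (Nat.minFac_eq_two_iff _).2 (hC ▸ (dvd_pow_self 2 (by simp)).mul_right _)
  set τ := MonoidHom.transferSylow P (hP.normalizer_le_centralizer hp)
  have h2 : Nat.card τ.ker = m := by
    have := (hP.isComplement' hp).card_mul_card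
    rw [show Nat.card (P : Subgroup C) = 2 ^ (n + 1) from h1, hC, mul_comm] at this
    exact Nat.eq_of_mul_eq_mul_left (by positivity) this
  refine ⟨τ.ker.map C.subtype, normalIn_iff_subgroupOf.2 ⟨map_subtype_le _, ?_⟩,
    by rw [card_subtype, h2], commutator_le.2 fun g hg h hh => ?_, fun g => ⟨fun hg => ?_, ?_⟩⟩
  · rw [subgroupOf, comap_map_eq_self_of_injective C.subtype_injective]; infer_instance
  · refine ⟨⁅(⟨g, hg⟩ : C), ⟨h, hh⟩⁆, ?_, rfl⟩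
    rw [SetLike.mem_coe, MonoidHom.mem_ker, map_commutatorElement, commutatorElement_eq_one_iff_mul_comm]
    exact hP.commGroup.mul_comm _ _
  · refine ⟨⟨g, hg.1⟩, orderOf_eq_one_iff.1 ?_, rfl⟩
    have h3 : orderOf (τ ⟨g, hg.1⟩) ∣ 2 ^ (n + 1) := h1 ▸ orderOf_dvd_natCard _
    have h4 : orderOf (τ ⟨g, hg.1⟩) ∣ orderOf g :=
      (orderOf_map_dvd τ _).trans (orderOf_coe (⟨g, hg.1⟩ : C)).symm.dvd
    exact Nat.eq_one_of_dvd_coprimes ((Nat.prime_two.coprime_iff_not_dvd.2 hg.2).pow_left _) h3 h4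
  · rintro ⟨g, hg, rfl⟩
    exact ⟨g.2, fun h => hm (h.trans (by
      rw [coe_subtype, orderOf_coe, ← h2]; exact Subgroup.orderOf_dvd_natCard _ hg))⟩

omit [Finite G] in
theorem cases_of_order_four (hx : orderOf x = 4) (hu : u ∈ zpowers x) :
    u = 1 ∨ u = x * x ∨ u = x ∨ u = x⁻¹ := by
  obtain ⟨i, rfl⟩ := mem_zpowers_iff.1 hu
  have h4 : x ^ 4 = 1 := hx ▸ pow_orderOf_eq_one x
  rw [← zpow_mod_orderOf, hx]
  have h1 : i % 4 = 0 ∨ i % 4 = 1 ∨ i % 4 = 2 ∨ i % 4 = 3 := by omega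
  rcases h1 with h | h | h | h <;> simp only [Nat.cast_ofNat, h]
  · simp
  · simp
  · exact Or.inr (Or.inl (zpow_two x))
  · refine Or.inr (Or.inr (Or.inr (eq_inv_of_mul_eq_one_left ?_)))
    rw [← h4]; norm_cast; exact (pow_succ x 3).symm

omit [Finite G] in
theorem sq_ne_one_of_order_four (hx : orderOf x = 4) : x * x ≠ 1 := fun h => by
  have := orderOf_dvd_of_pow_eq_one ((pow_two x).trans h)
  rw [hx] at this; omega

omit [Finite G] in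
theorem sq_mul_sq_of_order_four (hx : orderOf x = 4) : x * x * (x * x) = 1 := by
  rw [← pow_orderOf_eq_one x, hx]; simp [pow_succ, mul_assoc]

omit [Finite G] in
theorem eq_or_eq_inv_of_order_four (hx : orderOf x = 4) (hu : u ∈ zpowers x) (h : u * u ≠ 1) :
    u = x ∨ u = x⁻¹ := by
  rcases cases_of_order_four hx hu with rfl | rfl | h' | h'
  · simp at h
  · exact absurd (sq_mul_sq_of_order_four hx) h
  exacts [Or.inl h', Or.inr h']

omit [Finite G] in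
theorem eq_one_or_sq_of_order_four (hx : orderOf x = 4) (hu : u ∈ zpowers x) (h : u * u = 1) :
    u = 1 ∨ u = x * x := by
  rcases cases_of_order_four hx hu with h' | h' | rfl | rfl
  exacts [Or.inl h', Or.inr h', absurd h (sq_ne_one_of_order_four hx),
    absurd (by rwa [← mul_inv_rev, inv_eq_one] at h) (sq_ne_one_of_order_four hx)]

/-- a Sylow 2-subgroup of `G` has the cyclic subgroup `⟨a⟩` of index two inverted by `y` -/
structure QH (n m : ℕ) (a y : G) : Prop where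
  ord : orderOf a = 2 ^ (n + 2)
  inv : y * a * y⁻¹ = a⁻¹
  card : Nat.card G = 2 ^ (n + 3) * m
  odd : ¬ 2 ∣ m

namespace QH

omit [Finite G] in
theorem ord_x (h : QH n m a y) : orderOf (a ^ 2 ^ n) = 4 := by
  rw [orderOf_pow_of_dvd (by simp) (h.ord ▸ pow_dvd_pow 2 (by omega)), h.ord, pow_add,
    Nat.mul_div_cancel_left _ (by positivity)]
  norm_num

omit [Finite G] in
theorem inv_x (h : QH n m a y) : y * a ^ 2 ^ n * y⁻¹ = (a ^ 2 ^ n)⁻¹ := by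
  rw [← conj_pow, h.inv, inv_pow]

omit [Finite G] in
theorem y_not_mem (h : QH n m a y) : y ∉ 𝐂[a ^ 2 ^ n] := fun h' =>
  sq_ne_one_of_order_four h.ord_x (by
    rw [mem_cent1_iff_conj, h.inv_x] at h'
    exact mul_eq_one_iff_eq_inv.2 h'.symm)

theorem y_mem (h : QH n m a y) : y ∈ 𝐍(zpowers (a ^ 2 ^ n)) :=
  mem_norm_of_conj_mem fun u hu => by
    obtain ⟨i, rfl⟩ := mem_zpowers_iff.1 hu
    rw [← conj_zpow, h.inv_x]
    exact zpow_mem (inv_mem (mem_zpowers _)) i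

omit [Finite G] in
theorem mem_or_mem (h : QH n m a y) (hg : g * a ^ 2 ^ n * g⁻¹ ∈ zpowers (a ^ 2 ^ n)) :
    g * y⁻¹ ∈ 𝐂[a ^ 2 ^ n] ∨ g ∈ 𝐂[a ^ 2 ^ n] := by
  rcases eq_or_eq_inv_of_order_four h.ord_x hg (by
    rw [conj_mul, Ne, conj_eq_one_iff]; exact sq_ne_one_of_order_four h.ord_x) with h' | h'
  · exact Or.inr (mem_cent1_iff_conj.2 h')
  · refine Or.inl (inv_mem_iff.1 (mem_cent1_iff_conj.2 ?_))
    have h1 : g⁻¹ * a ^ 2 ^ n * g = (a ^ 2 ^ n)⁻¹ := by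
      rw [← inv_inj, inv_inv, mul_inv_rev, mul_inv_rev, ← h']; group
    have h2 : y * (a ^ 2 ^ n)⁻¹ * y⁻¹ = a ^ 2 ^ n := by rw [← conj_inv, h.inv_x, inv_inv]
    calc _ = y * (g⁻¹ * a ^ 2 ^ n * g) * y⁻¹ := by group
      _ = _ := by rw [h1, h2]

omit [Finite G] in
theorem cent_normal (x : G) : 𝐂[x] ⊴ 𝐍(zpowers x) :=
  cent_zpowers x ▸ ⟨cent_le_norm _, norm_le_norm_cent _⟩

theorem relIndex_eq (h : QH n m a y) : (𝐂[a ^ 2 ^ n]).relIndex 𝐍(zpowers (a ^ 2 ^ n)) = 2 :=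
  relIndex_eq_two_iff_exists_notMem_and.2 ⟨y⁻¹, inv_mem h.y_mem, mt inv_mem_iff.1 h.y_not_mem,
    fun _ hg => h.mem_or_mem ((mem_normalizer_iff.1 hg _).1 (mem_zpowers _))⟩

omit [Finite G] in
theorem a_mem (a : G) (k : ℕ) : a ∈ 𝐂[a ^ k] := mem_cent1.2 (Commute.self_pow a k).eq

theorem card_cent (h : QH n m a y) : ∃ m', ♯𝐂[a ^ 2 ^ n] = 2 ^ (n + 2) * m' ∧ ¬ 2 ∣ m' := by
  obtain ⟨m', hm'⟩ : 2 ^ (n + 2) ∣ ♯𝐂[a ^ 2 ^ n] :=
    h.ord ▸ Subgroup.orderOf_dvd_natCard _ (a_mem a _)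
  refine ⟨m', hm', fun h2 => h.odd (h2.trans ?_)⟩
  have h1 := card_subgroup_dvd_card 𝐍(zpowers (a ^ 2 ^ n))
  rw [← card_mul_relIndex (cent_normal _).1, h.relIndex_eq, hm', h.card, mul_right_comm,
    ← pow_succ] at h1
  exact Nat.dvd_of_mul_dvd_mul_left (by positivity) h1

theorem mem_zpowers_of_pow_four (h : QH n m a y) (hg : g ∈ 𝐂[a ^ 2 ^ n]) (h4 : g ^ 4 = 1) :
    g ∈ zpowers (a ^ 2 ^ n) := by
  obtain ⟨m', h1, h2⟩ := h.card_cent
  have hS : Coprime.IsSylowIn 2 (zpowers a) 𝐂[a ^ 2 ^ n] :=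
    ⟨zpowers_le.2 (a_mem a _), Core.isPGroup_zpowers_of_orderOf h.ord, by
      have := card_mul_relIndex (zpowers_le.2 (a_mem a (2 ^ n)))
      rw [Nat.card_zpowers, h.ord, h1] at this
      rwa [Nat.eq_of_mul_eq_mul_left (by positivity) this]⟩
  obtain ⟨c, hc, h3⟩ := hS.exists_le_conj (zpowers_le.2 hg)
    (Core.isPGroup_zpowers_of_pow_eq_one (k := 2) h4)
  obtain ⟨_, ⟨i, rfl⟩, rfl⟩ := h3 (mem_zpowers g)
  simp only [MulEquiv.toMonoidHom_eq_coe, MonoidHom.coe_coe, MulAut.conj_apply] at h4 ⊢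
  rw [conj_pow, conj_eq_one_iff, ← zpow_natCast, ← zpow_mul, ← orderOf_dvd_iff_zpow_eq_one, h.ord,
    pow_add] at h4
  obtain ⟨j, rfl⟩ : ((2 ^ n : ℕ) : ℤ) ∣ i :=
    Int.dvd_of_mul_dvd_mul_right (a := 4) (by norm_num) (by exact_mod_cast h4)
  rw [zpow_mul, zpow_natCast, ← conj_zpow, mem_cent1_iff_conj.1 hc]
  exact zpow_mem (mem_zpowers _) j

end QH

end Cfsg.Agent.R1
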