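import Cfsg.Agent.Lib.R1.ZBase

/-!
# The Brauer-Suzuki theorem for quaternion Sylow 2-subgroups of order at least 16
-/

set_option autoImplicit false

namespace Cfsg.Agent.R1

open Subgroup Cfsg.Agent.OO Cfsg.Agent.Blk
open scoped ComplexConjugate

universe u

variable {G : Type u} [Group G] [Finite G] {a y z : G} {n m : ℕ}

theorem QH.false_of_large (h : QH (n + 1) m a y) (hz : z * z = 1)
    (hgen : normalClosure ({z} : Set G) = ⊤) (hodd : ∀ g : G, ¬ 2 ∣ orderOf (g * z * g⁻¹ * z)) :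
    False := by
  classical
  set x := a ^ 2 ^ (n + 1) with hx
  obtain ⟨m', h1, h2⟩ := h.card_cent
  have ha : a ∈ 𝐂[x] := QH.a_mem a _
  obtain ⟨K, hK, hKc, hKd, hKr⟩ := exists_cyclic_compl ha h.ord h1 h2
  have ha4 : a ^ 4 ∉ K := fun h' => ((hKr _).2 h').2 (by
    rw [orderOf_pow_of_dvd (by simp) (h.ord ▸ pow_dvd_pow 2 (by omega : 2 ≤ n + 1 + 2)), h.ord,
      pow_add, show 4 = 2 ^ 2 from rfl, Nat.mul_div_cancel _ (by positivity)]
    exact dvd_pow_self 2 (by simp))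
  obtain ⟨μ, hμ, hμK, hμa⟩ := exists_lin_char_cfker hK hKd ha4
  have hl : IsLinChar 𝐂[x] (μ ^ 2) := hμ.pow two_ne_zero
  have hCN := QH.cent_normal x
  have hla : (μ ^ 2) a⁻¹ ≠ (μ ^ 2) a := fun e => hμa ((mem_cfker_lin hμ).2 (by
    rw [lin_charV hl ha, inv_eq_iff_eq_inv, eq_comm, ← mul_eq_one_iff_inv_eq₀ (lin_char_neq0 hl ha),
      Pi.pow_apply, ← pow_add] at e
    rwa [lin_charX hμ ha]))
  have hl1 : μ ^ 2 ≠ cf1 𝐂[x] := fun e => hla (by rw [e, cf1E ha, cf1E (inv_mem ha)])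
  let A : Set G := {g | g ∈ 𝐂[x] ∧ 4 ∣ orderOf g}
  have hAJ : ∀ g ∈ 𝐍(zpowers x), ∀ b ∈ A, g * b * g⁻¹ ∈ A := fun g hg b hb =>
    ⟨(mem_normalizer_iff.1 (hCN.2 hg) b).1 hb.1, by rw [orderOf_conj]; exact hb.2⟩
  have hφ : cf1 𝐂[x] - μ ^ 2 ∈ suppOn A := fun g hg => by
    by_cases hgC : g ∈ 𝐂[x]
    · rw [Pi.sub_apply, cf1E hgC, Pi.pow_apply, ← lin_charX hμ hgC,
        (mem_cfker_lin hμ).1 (hμK ((hKr _).1 ⟨pow_mem hgC 2, fun h3 => hg ⟨hgC, ?_⟩⟩)), sub_self]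
      rw [orderOf_pow' _ two_ne_zero] at h3
      by_cases h4 : 2 ∣ orderOf g
      · rw [Nat.gcd_eq_right h4] at h3
        exact (Nat.dvd_div_iff_mul_dvd h4).1 h3
      · exact absurd (h3.trans (Nat.div_dvd_of_dvd (Nat.gcd_dvd_left _ _))) h4
    · rw [Pi.sub_apply, cf1_of_not_mem hgC, cfun0 hl.mem_CF hgC, sub_self]
  have hTI : NormedTI A ⊤ 𝐍(zpowers x) := ⟨⟨x, mem_cent1_self x, h.ord_x.symm.dvd⟩,
    le_top, hAJ, fun g _ b hb hb' => by
      have h3 : orderOf (b ^ (orderOf b / 4)) = 4 := orderOf_pow_orderOf_div (orderOf_pos b).ne' hb.2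
      have h4 : (b ^ (orderOf b / 4)) ^ 4 = 1 := orderOf_dvd_iff_pow_eq_one.1 h3.dvd
      have h5 := h.mem_zpowers_of_pow_four (pow_mem hb.1 (orderOf b / 4)) h4
      have h6 := h.mem_zpowers_of_pow_four (pow_mem hb'.1 (orderOf b / 4)) (by
        rw [conj_pow, conj_pow, h4]; simp)
      rw [conj_pow] at h6
      have h7 : g * x * g⁻¹ ∈ zpowers x := by
        rcases eq_or_eq_inv_of_order_four h.ord_x h5 (sq_ne_one_of_order_four h3) with e | e
        · rwa [e] at h6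
        · rwa [e, ← conj_inv, inv_mem_iff] at h6
      refine mem_norm_of_conj_mem fun u hu => ?_
      obtain ⟨i, rfl⟩ := mem_zpowers_iff.1 hu
      rw [← conj_zpow]
      exact zpow_mem h7 i⟩
  have hψ := cfInd_on_of_conj 𝐂[x] hAJ hφ
  have hφZ : cf1 𝐂[x] - μ ^ 2 ∈ ZIrr 𝐂[x] := sub_mem (cf1_vchar _) (irr_vchar hl.isIrr)
  have hin : inertia 𝐍(zpowers x) (μ ^ 2) = 𝐂[x] := by
    refine le_antisymm (fun g hg => ?_) (sub_inertia hCN.1 hl.mem_CF)
    refine (h.mem_or_mem ((mem_normalizer_iff.1 hg.1 _).1 (mem_zpowers _))).resolve_left fun e => hla ?_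
    rw [← inertia_valJ hg a, ← cfunJ hl.mem_CF e a⁻¹, ← h.inv]
    group
  have h10 := not_cfclass_Ind_ortho hCN (isIrr_cf1 _) hl.isIrr (by
    rw [cfclass_cf1 hCN.2]; simpa using hl1)
  obtain ⟨c, b, hc, hb, hc1, -, -, e⟩ := exists_dirr_of_norm_three
    (cfInd_vchar le_top (cfInd_vchar hCN.1 hφZ))
    (by
      rw [normedTI_isometry hTI hψ hψ, map_sub, cfdotBl, cfdotBr, cfdotBr, h10, cfdot_symm0 h10,
        cfnorm_Ind_irr hCN (isIrr_cf1 _), cfnorm_Ind_irr hCN hl.isIrr, hin, inertia_cf1 hCN.2,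
        h.relIndex_eq, relIndex_self]
      norm_num)
    (by
      rw [cfdot_cfInd_left le_top (cfInd_mem_CF _ _ _).1 (cf1_mem_CF ⊤), ← cfdot_cfRes_right,
        cfRes_cf1 le_top, cfdot_cfInd_left hCN.1 (vchar_mem_CF hφZ).1 (cf1_mem_CF _),
        ← cfdot_cfRes_right, cfRes_cf1 hCN.1, cfdotBl, cfdot_cf1, hl.isIrr.cfdot_cf1 hl1, sub_zero])
  have h0 : ∀ g : G, ¬ 4 ∣ orderOf g → 1 + c g + b g = 0 := fun g hg => by
    have := cfInd_suppOn ⊤ 𝐍(zpowers x) hψ.2 g fun ⟨b, hb, k, _, e⟩ => hg (by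
      rw [e, orderOf_conj]; exact hb.2)
    rwa [e, Pi.add_apply, Pi.add_apply, cf1E (mem_top g)] at this
  refine false_of_norm_three hgen hodd hc hb hc1
    (fun g hg => h0 g fun h' => hg ((by norm_num : 2 ∣ 4).trans h')) ?_
  have := h0 z fun h' => by
    have := h'.trans (orderOf_dvd_of_pow_eq_one ((pow_two z).trans hz))
    omega
  rw [show b z = -(1 + c z) by linear_combination this, neg_sq]

end Cfsg.Agent.R1
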