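import Mathlib
import Cfsg.Agent.Lib.R1.ZT
import Cfsg.Agent.Lib.BSW.SL2Sub
import Cfsg.Agent.Lib.Coprime.FTFinal
import Cfsg.Agent.Lib.Frob.Kernel
import Cfsg.Agent.Lib.Core.Zipper

/-!
Groups with a trivial intersection subgroup containing the centralizers of its elements.
-/

set_option autoImplicit false

namespace Cfsg.Agent.R1

open Subgroup BSW OO
open scoped Pointwise

universe u

variable {G : Type u} [Group G] [Finite G] {F : Subgroup G}

/-- A nilpotent subgroup of even order containing the centralizers of its elements. -/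
theorem hypI_of_cc (hcc : ∀ x ∈ F, x ≠ 1 → ∀ g : G, g * x = x * g → g ∈ F) (hn : Nil F)
    (h2 : 2 ∣ ♯F) {u : G} (hu : u ∉ F) (u2 : u * u = 1) : HypI F := by
  obtain ⟨⟨s, hs⟩, so⟩ := exists_prime_orderOf_dvd_card' (G := Zc F) 2
    ((piOf_Zc_of_nil hn).ge ⟨Nat.prime_two, h2⟩).2
  rw [orderOf_mk] at so
  have s1 : s ≠ 1 := by rintro rfl; simp at so
  have s2 : s * s = 1 := by rw [← sq, ← so, pow_orderOf_eq_one]
  have hc : ∀ z ∈ F, z ≠ 1 → z * z = 1 → ∃ g, u = g * z * g⁻¹ := fun z hz z1 z2 => by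
    refine (exists_conj_of_odd z2 u2 ?_).elim fun k hk => ⟨_, hk⟩
    rw [← Nat.not_even_iff_odd]
    rintro ⟨k, hk⟩
    have hpos := orderOf_pos (z * u)
    have c1 : (z * u) ^ k ≠ 1 := pow_ne_one_of_lt_orderOf (by omega) (by omega)
    have c2 : (z * u) ^ k * (z * u) ^ k = 1 := by rw [← pow_add, ← hk, pow_orderOf_eq_one]
    have h1 : z * (z * u) * z⁻¹ = (z * u)⁻¹ := by
      rw [mul_inv_rev, inv_eq_of_mul_self u2, ← mul_assoc, z2, one_mul]
    have h3 : (z * u) ^ k * z = z * (z * u) ^ k := by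
      rw [eq_comm, ← mul_inv_eq_iff_eq_mul, ← conj_pow, h1, inv_pow, inv_eq_of_mul_self c2]
    have h4 := hcc z hz z1 _ h3
    exact hu ((F.mul_mem_cancel_left hz).1 (hcc _ h4 c1 _ (Commute.self_pow _ _).eq))
  refine ⟨fun z hz z1 z2 g => ⟨hcc z hz z1 g, fun hg => ?_⟩, s, hs.1, s1, s2⟩
  obtain ⟨a, ha⟩ := hc s hs.1 s1 s2
  obtain ⟨b, hb⟩ := hc z hz z1 z2
  have e : z = b⁻¹ * a * s * (b⁻¹ * a)⁻¹ := by
    calc z = b⁻¹ * (b * z * b⁻¹) * b := by group
      _ = _ := by rw [← hb, ha]; group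
  generalize b⁻¹ * a = c at e
  have h1 : ∀ x ∈ F, c * x * c⁻¹ ∈ F := fun x hx => hcc z hz z1 _ (by
    rw [e, conj_mul, conj_mul, mem_centralizer_iff.1 hs.2 x hx])
  obtain ⟨x, hx⟩ := Finite.surjective_of_injective (f := fun x : F => (⟨_, h1 x x.2⟩ : F))
    (fun x y e => Subtype.ext (by simpa using e)) ⟨g, hg⟩
  obtain rfl : c * x * c⁻¹ = g := congrArg Subtype.val hx
  rw [e, conj_mul, conj_mul, mem_centralizer_iff.1 hs.2 x x.2]

theorem fs (hz : ZStar.{u}) (F : Subgroup G → Subgroup G)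
    (h : ∀ M : Subgroup G, (Group.IsSolvable M ∧ ∀ M' : Subgroup G, M < M' → ¬ Group.IsSolvable M') →
      F M ≤ M ∧ M ≤ Subgroup.normalizer (F M : Set G) ∧
      (∀ a ∈ M, a ∉ F M → ∀ x ∈ F M, x * a = a * x → x = 1) ∧
      (∀ g : G, g ∉ M → F M ⊓ (MulAut.conj g • F M) = ⊥) ∧
      (F M ≠ ⊥ ∨ IsMulCommutative M)) :
    Group.IsSolvable G ∨
      (∃ (K : Type) (_ : Field K) (_ : Fintype K), (∃ n : ℕ, 2 ≤ n ∧ Fintype.card K = 2 ^ n) ∧
        Nonempty (G ≃* Matrix.SpecialLinearGroup (Fin 2) K)) ∨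
      Cfsg.Lie.IsoSuzuki G := by
  refine or_iff_not_imp_left.2 fun hG => ?_
  obtain ⟨S⟩ : Nonempty (Sylow 2 G) := inferInstance
  obtain ⟨M, hSM, hM⟩ := Finite.exists_le_maximal (p := fun M : Subgroup G => Sol M)
    (sol_of_normal_of_quo (normalIn_norm S.1) (sol_of_isPGroup S.2)
      (Coprime.ft.solvable_of_not_dvd (by
        rw [card_quo le_rfl]
        exact fun h => S.not_dvd_index (h.trans (relIndex_dvd_index_of_le le_normalizer)))))
  obtain ⟨hFM, hN, hfpf, hti, hne⟩ := h M ⟨hM.1, fun M' h h' => h.not_ge (hM.2 h' h.le)⟩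
  generalize F M = F at hFM hN hfpf hti hne
  have hMG : M ≠ ⊤ := by
    rintro rfl
    have := hM.1
    exact hG (Group.isSolvable_of_surjective (f := (⊤ : Subgroup G).subtype) fun x => ⟨⟨x, trivial⟩, rfl⟩)
  replace hne : F ≠ ⊥ := hne.resolve_right fun hab => by
    have hc := MonoidHom.ker_transferSylow_isComplement' S fun x hx => mem_centralizer_iff.2
      fun y hy => congrArg Subtype.val (hab.is_comm.comm ⟨y, hSM (le_normalizer hy)⟩ ⟨x, hSM hx⟩)
    refine hMG (eq_top_iff.2 (hM.2 (hc.symm.sup_eq_top ▸ sol_sup ?_ (sol_of_isPGroup S.2)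
      (Coprime.ft.solvable_of_not_dvd ?_)) le_top))
    · rw [normalizer_eq_top]; exact le_top
    · rw [← hc.index_eq_card]; exact S.not_dvd_index
  replace hti : ∀ x ∈ F, x ≠ 1 → ∀ g : G, g * x * g⁻¹ ∈ F → g ∈ M := fun x hx x1 g hg => by
    by_contra hgM
    exact conj_ne_one x1 (mem_bot.1 ((hti g hgM).le ⟨hg, smul_mem_pointwise_smul _ _ _ hx⟩))
  have hcc : ∀ x ∈ F, x ≠ 1 → ∀ g : G, g * x = x * g → g ∈ F := fun x hx x1 g e => by
    by_contra hg
    exact x1 (hfpf g (hti x hx x1 g (by rwa [e, mul_inv_cancel_right])) hg x hx e.symm)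
  obtain ⟨⟨f, hf⟩, f1⟩ := ne_bot_iff_exists_ne_one.1 hne
  replace f1 : f ≠ 1 := by simpa using f1
  have hR : ∀ N : Subgroup G, N.Normal → Sol N → N = ⊥ := fun N hN1 hs => by
    by_contra h0
    have h1 : Zc (Fit N) ⊴ ⊤ := (normalIn_top.2 hN1).Fit.Zc
    have h2 : Zc (Fit N) ≤ M := le_sup_right.trans (hM.2 (sol_sup (le_top.trans h1.norm) hM.1
      (sol_of_nil (nil_of_le (Fit_nil N) inf_le_left))) le_sup_left)
    obtain ⟨⟨a, ha⟩, a1⟩ := ne_bot_iff_exists_ne_one.1 (Zc_ne_bot (Fit_nil N) (Fit_ne_bot hs h0))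
    replace a1 : a ≠ 1 := by simpa using a1
    obtain ⟨b, hb, hbF, b1⟩ : ∃ b ∈ Zc (Fit N), b ∈ F ∧ b ≠ 1 := by
      by_contra! h
      refine a1 (h a ha (hcc f hf f1 a (mul_inv_eq_one.1 (h _ ?_ ?_))))
      · rw [mul_inv_rev, ← mul_assoc, mul_assoc a, mul_assoc a]
        exact mul_mem ha (h1.conj_mem (mem_top f) (inv_mem ha))
      · rw [mul_inv_rev, ← mul_assoc]
        exact mul_mem (Frob.conj_mem_of_mem_normalizer (hN (h2 ha)) hf) (inv_mem hf)
    exact hMG (eq_top_iff.2 fun g _ => hti b hbF b1 g (hcc b hbF b1 _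
      (mem_centralizer_iff.1 hb.2 _ (h1.conj_mem (mem_top g) hb).1)))
  have hFM' : F ≠ M := by
    rintro rfl
    obtain ⟨K, hK, -, hp, -⟩ := Frob.exists_isFrobPair ((Frob.isFrobeniusComplement_iff F).2
      ⟨hne, hMG, fun g hg x hx e => by
        by_contra x1
        exact hg (inv_mem_iff.1 (hti x hx x1 _ (by rwa [inv_inv])))⟩)
    exact hp.left_ne_bot (hR K hK (sol_of_nil (Transfer.isNilpotent_of_isFrobPair hp)))
  obtain ⟨t, ht⟩ := exists_prime_orderOf_dvd_card' (G := G) 2 (by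
    by_contra h
    exact hG (Coprime.ft.solvable_of_not_dvd h))
  have t1 : t ≠ 1 := by rintro rfl; simp at ht
  have t2 : t * t = 1 := by rw [← sq, ← ht, pow_orderOf_eq_one]
  by_cases h2 : 2 ∣ ♯F
  swap
  · have hinv : ∀ s ∈ M, s ≠ 1 → s * s = 1 → s ∉ F ∧ s * f * s⁻¹ = f⁻¹ := fun s hs s1 s2 => by
      have h1 : s ∉ F := fun h =>
        h2 ((orderOf_eq_prime (p := 2) (by rwa [sq]) s1) ▸ orderOf_dvd_natCard F h)
      obtain ⟨y, -, e⟩ := Frob.exists_conj_of_fpf (hN hs) (fun x hx e => hfpf s hs h1 x hx e.symm) hf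
      have := conj_mul_self (g := y) s2
      rw [e] at this
      refine ⟨h1, ?_⟩
      rw [inv_eq_of_mul_self s2, eq_inv_iff_mul_eq_one, mul_eq_one_comm, ← this]
      group
    have h3 := hz G t t2 fun g e => by
      have h4 := conj_mul_self (g := g) t2
      have h5 := conj_ne_one (g := g) t1
      generalize g * t * g⁻¹ = s at e h4 h5
      obtain ⟨c, -, hc⟩ := Coprime.IsSylowIn.exists_conj_le (P := S) (M := ⊤)
        ⟨le_top, S.2, relIndex_top_right S.1 ▸ S.not_dvd_index⟩ le_top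
        (Core.isPGroup_two_closure_pair_involutions t2 h4 (k := 1) (by
          rw [pow_one, sq, mul_assoc, ← mul_assoc s, ← e, mul_assoc, h4, mul_one, t2]))
      have h6 : c * t * c⁻¹ ∈ M := hSM (le_normalizer
        (hc (smul_mem_pointwise_smul _ _ _ (subset_closure (by simp)))))
      have h7 : c * s * c⁻¹ ∈ M := hSM (le_normalizer
        (hc (smul_mem_pointwise_smul _ _ _ (subset_closure (by simp)))))
      by_contra hne
      refine (hinv _ (mul_mem h6 h7) (by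
        rw [conj_mul]
        exact conj_ne_one fun e => hne (mul_left_cancel (e.trans t2.symm))) (by
          rw [conj_mul]
          refine conj_mul_self ?_
          rw [mul_assoc, ← mul_assoc s, ← e, mul_assoc, h4, mul_one, t2])).1 (hcc f hf f1 _ ?_)
      have h8 := (hinv _ h6 (conj_ne_one t1) (conj_mul_self t2)).2
      have h9 := (hinv _ h7 (conj_ne_one h5) (conj_mul_self h4)).2
      generalize c * t * c⁻¹ = x at h8
      generalize c * s * c⁻¹ = y at h9
      calc x * y * f = x * (y * f * y⁻¹) * y := by group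
        _ = (x * f * x⁻¹)⁻¹ * (x * y) := by rw [h9]; group
        _ = _ := by rw [h8, inv_inv]
    rw [hR (pPrimeCore 2 G) inferInstance
      (Coprime.ft.solvable_of_not_dvd Core.not_dvd_card_pPrimeCore)] at h3
    have h4 := hR (center G) inferInstance (sol_of_nil (nil_of_ab inferInstance))
    exact (t1 (mem_bot.1 (h4 ▸ mem_center_iff.2 fun g =>
      mul_inv_eq_iff_eq_mul.1 (mul_inv_eq_one.1 (h3 g))))).elim
  obtain ⟨a, haM, haF⟩ := SetLike.exists_of_lt (hFM.lt_of_ne hFM')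
  have hnil : Nil F := Transfer.isNilpotent_of_fpf_action (H := zpowers a)
    ((zpowers_le.2 haM).trans hN) (fun e => haF (mem_bot.1 (e ▸ mem_zpowers a) ▸ one_mem F))
    fun b hb b1 x hx e => hfpf b (zpowers_le.2 haM hb) (fun h => haF (hcc b h b1 a (by
      obtain ⟨k, rfl⟩ := hb
      exact (Commute.self_zpow a k).eq))) x hx e.symm
  obtain ⟨s, hs, s2⟩ : ∃ s, s ∉ M ∧ s * s = 1 := by
    by_contra! h
    have h1 : normalClosure {t} ≤ M := (closure_le _).2 fun x hx => by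
      obtain ⟨y, hy, hx⟩ := Group.mem_conjugatesOfSet_iff.1 hx
      obtain ⟨c, rfl⟩ := isConj_iff.1 hx
      rw [Set.mem_singleton_iff.1 hy]
      by_contra h1
      exact h _ h1 (conj_mul_self t2)
    exact t1 (mem_bot.1 (hR _ inferInstance (sol_of_le hM.1 h1) ▸
      subset_normalClosure (Set.mem_singleton t)))
  rcases zt G F s ⟨hypI_of_cc hcc hnil h2 (fun h => hs (hFM h)) s2, hcc, ⟨a, hN haM, haF⟩,
    fun h => hs (hti f hf f1 s (Frob.conj_mem_of_mem_normalizer h hf)), s2⟩ with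
    ⟨n, hn, -, ⟨e⟩⟩ | ⟨m, hm, -, -, e⟩
  · exact Or.inl ⟨GaloisField 2 n, inferInstance, Fintype.ofFinite _, ⟨n, hn, by
      rw [Fintype.card_eq_nat_card, GaloisField.card _ _ (by omega)]⟩, ⟨e.trans pslEquiv⟩⟩
  · exact Or.inr ⟨_, inferInstance, Fintype.ofFinite _, m, hm, by
      rw [Fintype.card_eq_nat_card, GaloisField.card _ _ (by omega)], e⟩

end Cfsg.Agent.R1
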